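import Mathlib.GroupTheory.Sylow
import Mathlib.GroupTheory.Index
import Mathlib.GroupTheory.OrderOfElement
import Mathlib.GroupTheory.SpecificGroups.Cyclic

/-!
# Bicyclic 2-groups with trivial intersection (owner: helper91)

* `BFac` : a factorisation `T = ⟨a⟩⟨b⟩` with orders `2 ^ k`, `2 ^ l` and trivial intersection
* `ta_central` : if `l ≤ k` the involution in `⟨a⟩` is central
* `inv_even` : the involutions `a ^ i * b ^ j` with `i` even
* `exists_sign` : a homomorphism to `ℤˣ` with `a ↦ -1`, `b ↦ 1`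
* `inE_of_sign` : the involutions in its kernel
-/

set_option autoImplicit false
set_option linter.style.haveILetI false
set_option linter.unusedSectionVars false

namespace Cfsg.Agent.CyclicZFactor

universe u

variable {T : Type u} [Group T]

/-- The involution in the cyclic group generated by an element of order `2 ^ k`. -/
def top (a : T) (k : ℕ) : T := a ^ 2 ^ (k - 1)

/-- The square root of the involution. -/
def four (a : T) (k : ℕ) : T := a ^ 2 ^ (k - 2)

/-- The four-group spanned by two involutions. -/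
def InE (s t x : T) : Prop := x = 1 ∨ x = s ∨ x = t ∨ x = s * t

structure BFac (a b : T) (k l : ℕ) : Prop where
  oa : orderOf a = 2 ^ k
  ob : orderOf b = 2 ^ l
  disj : ∀ i j : ℕ, a ^ i = b ^ j → a ^ i = 1
  surj : ∀ x : T, ∃ i j : ℕ, x = a ^ i * b ^ j

namespace BFac

theorem exists_inv_pow [Finite T] (a : T) (i : ℕ) : ∃ i' : ℕ, a ^ i' = (a ^ i)⁻¹ :=
  (Submonoid.mem_powers_iff _ _).1
    (mem_powers_iff_mem_zpowers.2 (inv_mem (Subgroup.npow_mem_zpowers a i)))

theorem pow_eq_one_iff_dvd {a : T} {k : ℕ} (h : orderOf a = 2 ^ k) (i : ℕ) :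
    a ^ i = 1 ↔ 2 ^ k ∣ i := by
  rw [← h, orderOf_dvd_iff_pow_eq_one]

theorem top_ne {a : T} {k : ℕ} (h : orderOf a = 2 ^ k) (hk : 1 ≤ k) : top a k ≠ 1 := by
  rw [top, Ne, pow_eq_one_iff_dvd h, Nat.pow_dvd_pow_iff_le_right (le_refl 2)]
  omega

theorem top_sq {a : T} {k : ℕ} (h : orderOf a = 2 ^ k) (hk : 1 ≤ k) : top a k * top a k = 1 := by
  rw [top, ← pow_add, pow_eq_one_iff_dvd h, ← two_mul, ← pow_succ', show k - 1 + 1 = k by omega]

theorem top_inv {a : T} {k : ℕ} (h : orderOf a = 2 ^ k) (hk : 1 ≤ k) : (top a k)⁻¹ = top a k :=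
  inv_eq_of_mul_eq_one_right (top_sq h hk)

theorem orderOf_top {a : T} {k : ℕ} (h : orderOf a = 2 ^ k) (hk : 1 ≤ k) : orderOf (top a k) = 2 :=
  haveI : Fact (Nat.Prime 2) := ⟨Nat.prime_two⟩
  orderOf_eq_prime (by rw [sq]; exact top_sq h hk) (top_ne h hk)

theorem top_pow {a : T} {k : ℕ} (h : orderOf a = 2 ^ k) (hk : 1 ≤ k) (c : ℕ) :
    top a k ^ c = 1 ∨ top a k ^ c = top a k := by
  rcases Nat.even_or_odd c with ⟨d, rfl⟩ | ⟨d, rfl⟩
  · left; rw [← two_mul, pow_mul, sq, top_sq h hk, one_pow]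
  · right; rw [pow_succ, pow_mul, sq, top_sq h hk, one_pow, one_mul]

theorem four_sq {a : T} {k : ℕ} (hk : 2 ≤ k) : four a k * four a k = top a k := by
  rw [four, top, ← pow_add, ← two_mul, ← pow_succ', show k - 2 + 1 = k - 1 by omega]

theorem sq_cases {a : T} {k : ℕ} (h : orderOf a = 2 ^ k) (hk : 1 ≤ k) {i : ℕ}
    (hi : a ^ (2 * i) = 1) : a ^ i = 1 ∨ a ^ i = top a k := by
  rw [pow_eq_one_iff_dvd h, show k = k - 1 + 1 by omega, pow_succ'] at hi
  obtain ⟨c, rfl⟩ := Nat.dvd_of_mul_dvd_mul_left two_pos hi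
  rw [pow_mul]
  exact top_pow h hk c

theorem eq_four_pow {a : T} {k : ℕ} (h : orderOf a = 2 ^ k) (hk : 2 ≤ k) {i : ℕ}
    (hi : a ^ (4 * i) = 1) : ∃ c, a ^ i = four a k ^ c := by
  rw [pow_eq_one_iff_dvd h, show k = k - 2 + 2 by omega, pow_add,
    show (2 : ℕ) ^ 2 = 4 by norm_num, mul_comm] at hi
  obtain ⟨c, rfl⟩ := Nat.dvd_of_mul_dvd_mul_left (by norm_num) hi
  exact ⟨c, pow_mul _ _ _⟩

theorem eq_top_of_sq {a : T} {k : ℕ} (h : orderOf a = 2 ^ k) (hk : 1 ≤ k) {i : ℕ}
    (h1 : a ^ i ≠ 1) (h2 : a ^ i * a ^ i = 1) : a ^ i = top a k :=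
  (sq_cases h hk (by rw [two_mul, pow_add]; exact h2)).resolve_left h1

theorem fin_inj {a : T} {k : ℕ} (h : orderOf a = 2 ^ k) {i i' : Fin (2 ^ k)}
    (he : a ^ (i : ℕ) = a ^ (i' : ℕ)) : i = i' :=
  Fin.ext (pow_injOn_Iio_orderOf (by rw [Set.mem_Iio, h]; exact i.2)
    (by rw [Set.mem_Iio, h]; exact i'.2) he)

variable [Finite T] {a b : T} {k l : ℕ}

theorem swap (hT : BFac a b k l) : BFac b a l k where
  oa := hT.ob
  ob := hT.oa
  disj i j h := by
    have := hT.disj j i h.symm
    rw [h, this]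
  surj x := by
    obtain ⟨i, j, hx⟩ := hT.surj x⁻¹
    obtain ⟨i', hi⟩ := exists_inv_pow a i
    obtain ⟨j', hj⟩ := exists_inv_pow b j
    exact ⟨j', i', by rw [hi, hj, ← mul_inv_rev, ← hx, inv_inv]⟩

theorem disj_mul (hT : BFac a b k l) {i j : ℕ} (h : a ^ i * b ^ j = 1) : a ^ i = 1 ∧ b ^ j = 1 := by
  obtain ⟨j', hj⟩ := exists_inv_pow b j
  have hi : a ^ i = 1 := hT.disj i j' (by rw [hj]; exact eq_inv_of_mul_eq_one_left h)
  exact ⟨hi, by rwa [hi, one_mul] at h⟩

theorem repr_inj (hT : BFac a b k l) {i j i' j' : ℕ} (h : a ^ i * b ^ j = a ^ i' * b ^ j') :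
    a ^ i = a ^ i' ∧ b ^ j = b ^ j' := by
  obtain ⟨e, he⟩ := exists_inv_pow a i'
  obtain ⟨f, hf⟩ := exists_inv_pow b j'
  have h1 : a ^ (e + i) * b ^ (j + f) = 1 := by
    rw [pow_add, pow_add, he, hf, show (a ^ i')⁻¹ * a ^ i * (b ^ j * (b ^ j')⁻¹) =
      (a ^ i')⁻¹ * (a ^ i * b ^ j) * (b ^ j')⁻¹ by group, h]
    group
  obtain ⟨h2, h3⟩ := hT.disj_mul h1
  rw [pow_add, he] at h2
  rw [pow_add, hf] at h3
  exact ⟨(eq_of_inv_mul_eq_one h2).symm, mul_inv_eq_one.1 h3⟩

theorem card_eq (hT : BFac a b k l) : Nat.card T = 2 ^ (k + l) := by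
  have hbij : Function.Bijective (fun p : Fin (2 ^ k) × Fin (2 ^ l) => a ^ p.1.1 * b ^ p.2.1) := by
    constructor
    · rintro ⟨i, j⟩ ⟨i', j'⟩ h
      obtain ⟨h1, h2⟩ := hT.repr_inj h
      exact Prod.ext (fin_inj hT.oa h1)
        (fin_inj hT.ob h2)
    · intro x
      obtain ⟨i, j, rfl⟩ := hT.surj x
      exact ⟨(⟨i % 2 ^ k, Nat.mod_lt _ (by positivity)⟩, ⟨j % 2 ^ l, Nat.mod_lt _ (by positivity)⟩),
        by simp only [← hT.oa, ← hT.ob, pow_mod_orderOf]⟩
  rw [← Nat.card_congr (Equiv.ofBijective _ hbij), Nat.card_prod, Nat.card_fin, Nat.card_fin,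
    pow_add]

theorem of_card {a b : T} {k l : ℕ} (oa : orderOf a = 2 ^ k) (ob : orderOf b = 2 ^ l)
    (disj : ∀ i j : ℕ, a ^ i = b ^ j → a ^ i = 1) (hc : Nat.card T = 2 ^ (k + l)) : BFac a b k l where
  oa := oa
  ob := ob
  disj := disj
  surj := by
    have hinj : Function.Injective (fun p : Fin (2 ^ k) × Fin (2 ^ l) => a ^ p.1.1 * b ^ p.2.1) := by
      rintro ⟨i, j⟩ ⟨i', j'⟩ h
      simp only at h
      obtain ⟨e, he⟩ := exists_inv_pow a i'.1
      obtain ⟨f, hf⟩ := exists_inv_pow b j.1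
      have h1 : a ^ (e + i) = b ^ (j' + f) := by
        rw [pow_add, pow_add, he, hf, eq_mul_inv_iff_mul_eq, mul_assoc, h, inv_mul_cancel_left]
      have h2 := disj _ _ h1
      rw [pow_add, he] at h2
      have h3 : a ^ i.1 = a ^ i'.1 := (eq_of_inv_mul_eq_one h2).symm
      rw [h3] at h
      exact Prod.ext (fin_inj oa h3)
        (fin_inj ob (mul_left_cancel h))
    have hbij := hinj.bijective_of_nat_card_le
      (by rw [Nat.card_prod, Nat.card_fin, Nat.card_fin, ← pow_add, hc])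
    intro x
    obtain ⟨⟨i, j⟩, hij⟩ := hbij.2 x
    exact ⟨i, j, hij.symm⟩

/-- Douglas: the involution of the larger factor is central. -/
theorem ta_central (hT : BFac a b k l) (hkl : l ≤ k) (hk : 1 ≤ k) (x : T) :
    Commute x (top a k) := by
  obtain ⟨i, j, h1, hij⟩ : ∃ i j : ℕ, a ^ i ≠ 1 ∧ a ^ i = x * a ^ j * x⁻¹ := by
    by_cases hinj : Function.Injective
        (fun p : Fin (2 ^ k) × Fin (2 ^ k) => a ^ p.1.1 * (x * a ^ p.2.1 * x⁻¹))
    · have hbij := hinj.bijective_of_nat_card_le (by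
        rw [hT.card_eq, Nat.card_prod, Nat.card_fin, ← pow_add]
        exact Nat.pow_le_pow_right two_pos (by omega))
      obtain ⟨⟨i, j⟩, hij⟩ := hbij.2 x⁻¹
      simp only at hij
      have hx : a ^ (i : ℕ) * x * a ^ (j : ℕ) = 1 := by
        calc a ^ (i : ℕ) * x * a ^ (j : ℕ) = a ^ (i : ℕ) * (x * a ^ (j : ℕ) * x⁻¹) * x := by group
          _ = 1 := by rw [hij]; group
      refine ⟨1, 1, ?_, ?_⟩
      · rw [Ne, pow_eq_one_iff_dvd hT.oa, Nat.dvd_one, pow_eq_one_iff]
        omega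
      · have hxa : Commute x a := by
          have : x = (a ^ (i : ℕ))⁻¹ * (a ^ (j : ℕ))⁻¹ := by
            calc x = (a ^ (i : ℕ))⁻¹ * (a ^ (i : ℕ) * x * a ^ (j : ℕ)) * (a ^ (j : ℕ))⁻¹ := by group
              _ = _ := by rw [hx]; group
          rw [this]
          exact ((Commute.pow_self a _).inv_left).mul_left ((Commute.pow_self a _).inv_left)
        rw [pow_one, hxa.eq, mul_inv_cancel_right]
    · rw [Function.Injective] at hinj
      push Not at hinj
      obtain ⟨⟨i, j⟩, ⟨i', j'⟩, h, hne⟩ := hinj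
      simp only at h
      obtain ⟨e, he⟩ := exists_inv_pow a i'.1
      obtain ⟨f, hf⟩ := exists_inv_pow a j.1
      have heq : a ^ (e + i) = x * a ^ (j' + f) * x⁻¹ := by
        rw [pow_add, pow_add, he, hf]
        calc (a ^ i'.1)⁻¹ * a ^ i.1
            = (a ^ i'.1)⁻¹ * (a ^ i.1 * (x * a ^ j.1 * x⁻¹)) * (x * (a ^ j.1)⁻¹ * x⁻¹) := by group
          _ = (a ^ i'.1)⁻¹ * (a ^ i'.1 * (x * a ^ j'.1 * x⁻¹)) * (x * (a ^ j.1)⁻¹ * x⁻¹) := by rw [h]
          _ = _ := by group
      refine ⟨_, _, fun h1 => hne ?_, heq⟩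
      rw [pow_add, he] at h1
      have h3 : a ^ i.1 = a ^ i'.1 := (eq_of_inv_mul_eq_one h1).symm
      rw [h3] at h
      exact Prod.ext (fin_inj hT.oa h3)
        (fin_inj hT.oa
          (mul_left_cancel (mul_right_cancel (mul_left_cancel h))))
  -- take the power of `a ^ i` which is the involution
  obtain ⟨r, hr, hord⟩ : ∃ r, 1 ≤ r ∧ orderOf (a ^ i) = 2 ^ r := by
    obtain ⟨r, -, hr⟩ := (Nat.dvd_prime_pow Nat.prime_two).1 (hT.oa ▸ orderOf_pow_dvd (x := a) i)
    refine ⟨r, Nat.one_le_iff_ne_zero.2 fun h0 => h1 ?_, hr⟩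
    rwa [h0, pow_zero, orderOf_eq_one_iff] at hr
  have h2 := top_sq hord hr
  have h3 := top_ne hord hr
  simp only [top, ← pow_mul] at h2 h3
  have h4 := eq_top_of_sq hT.oa hk h3 h2
  have h5 : top a k = x * a ^ (j * 2 ^ (r - 1)) * x⁻¹ := by
    rw [← h4, pow_mul a i, hij, conj_pow, ← pow_mul]
  have h6 : a ^ (j * 2 ^ (r - 1)) = x⁻¹ * top a k * x := by rw [h5]; group
  have h7 : a ^ (j * 2 ^ (r - 1)) = top a k := eq_top_of_sq hT.oa hk
    (fun h => top_ne hT.oa hk (by rw [h5, h]; group))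
    (by
      rw [h6, show x⁻¹ * top a k * x * (x⁻¹ * top a k * x) = x⁻¹ * (top a k * top a k) * x by group,
        top_sq hT.oa hk]
      group)
  rw [h7, eq_mul_inv_iff_mul_eq] at h5
  exact h5.symm

/-- Dividing out the central involution of `⟨a⟩`. -/
theorem quot (hT : BFac a b k l) (hk : 1 ≤ k) (hc : ∀ x : T, Commute x (top a k)) :
    ∃ (Q : Type u) (_ : Group Q) (_ : Finite Q) (q : T →* Q),
      BFac (q a) (q b) (k - 1) l ∧ ∀ x, q x = 1 → x = 1 ∨ x = top a k := by
  haveI hn : (Subgroup.zpowers (top a k)).Normal := ⟨fun n hn g => by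
    obtain ⟨c, rfl⟩ := Subgroup.mem_zpowers_iff.1 hn
    rw [((hc g).zpow_right c).eq, mul_inv_cancel_right]
    exact hn⟩
  have hker : ∀ x, QuotientGroup.mk' (Subgroup.zpowers (top a k)) x = 1 →
      x = 1 ∨ x = top a k := by
    intro x hx
    rw [QuotientGroup.mk'_apply, QuotientGroup.eq_one_iff] at hx
    obtain ⟨c, hc'⟩ := (Submonoid.mem_powers_iff _ _).1 (mem_powers_iff_mem_zpowers.2 hx)
    rw [← hc']
    exact top_pow hT.oa hk c
  have hqt : QuotientGroup.mk' (Subgroup.zpowers (top a k)) (top a k) = 1 := by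
    rw [QuotientGroup.mk'_apply, QuotientGroup.eq_one_iff]
    exact Subgroup.mem_zpowers _
  refine ⟨T ⧸ Subgroup.zpowers (top a k), inferInstance, inferInstance, QuotientGroup.mk' _,
    ⟨?_, ?_, ?_, ?_⟩, hker⟩
  · refine Nat.dvd_antisymm (orderOf_dvd_of_pow_eq_one (by rw [← map_pow]; exact hqt)) ?_
    have h := pow_orderOf_eq_one (QuotientGroup.mk' (Subgroup.zpowers (top a k)) a)
    rw [← map_pow] at h
    generalize orderOf (QuotientGroup.mk' (Subgroup.zpowers (top a k)) a) = n at h ⊢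
    have h2 : a ^ (2 * n) = 1 := by
      rw [two_mul, pow_add]
      rcases hker _ h with h' | h' <;> rw [h']
      · exact one_mul 1
      · exact top_sq hT.oa hk
    rw [pow_eq_one_iff_dvd hT.oa] at h2
    rw [show k = k - 1 + 1 by omega, pow_succ'] at h2
    exact Nat.dvd_of_mul_dvd_mul_left two_pos h2
  · rw [← hT.ob]
    refine orderOf_eq_orderOf_iff.2 fun n => ⟨fun h => ?_, fun h => by rw [← map_pow, h, map_one]⟩
    rw [← map_pow] at h
    rcases hker _ h with h' | h'
    · exact h'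
    · exact absurd (hT.disj _ _ h'.symm) (top_ne hT.oa hk)
  · intro i j h
    rw [← map_pow, ← map_pow] at h
    obtain ⟨e, he⟩ := exists_inv_pow b j
    have h' : QuotientGroup.mk' (Subgroup.zpowers (top a k)) (a ^ i * b ^ e) = 1 := by
      rw [he, map_mul, map_inv, h, mul_inv_cancel]
    rcases hker _ h' with h'' | h''
    · rw [← map_pow, (hT.disj_mul h'').1, map_one]
    · have h3 : a ^ (2 ^ (k - 1) + i) * b ^ e = 1 := by
        rw [pow_add, mul_assoc, h'']
        exact top_sq hT.oa hk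
      have h4 : top a k * a ^ i = 1 := by
        rw [top, ← pow_add]
        exact (hT.disj_mul h3).1
      have h5 := congrArg (QuotientGroup.mk' (Subgroup.zpowers (top a k))) h4
      rw [map_mul, hqt, one_mul, map_one, map_pow] at h5
      exact h5
  · intro x
    obtain ⟨x, rfl⟩ := QuotientGroup.mk'_surjective _ x
    obtain ⟨i, j, rfl⟩ := hT.surj x
    exact ⟨i, j, by rw [map_mul, map_pow, map_pow]⟩

/-- Dividing out both central involutions. -/
theorem quot_two (hT : BFac a b k k) (hk : 2 ≤ k) :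
    ∃ (Q : Type u) (_ : Group Q) (_ : Finite Q) (q : T →* Q),
      BFac (q a) (q b) (k - 1) (k - 1) ∧ ∀ x, q x = 1 → InE (top a k) (top b k) x := by
  obtain ⟨Q, _, _, q, hQ, hker⟩ := hT.quot (by omega) (hT.ta_central le_rfl (by omega))
  obtain ⟨R, _, _, r, hR, hker'⟩ :=
    hQ.swap.quot (by omega) (hQ.swap.ta_central (by omega) (by omega))
  refine ⟨R, inferInstance, inferInstance, r.comp q, hR.swap, fun x hx => ?_⟩
  have htb : q (top b k) = top (q b) k := map_pow _ _ _
  rcases hker' _ hx with h | h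
  · rcases hker _ h with h' | h'
    · exact Or.inl h'
    · exact Or.inr (Or.inl h')
  · have h2 : q (top b k * x) = 1 := by
      rw [map_mul, h, htb]
      exact top_sq hQ.ob (by omega)
    have hx' : x = top b k * (top b k * x) := by
      rw [← mul_assoc, top_sq hT.ob (by omega), one_mul]
    rcases hker _ h2 with h' | h' <;> rw [h'] at hx'
    · rw [mul_one] at hx'
      exact Or.inr (Or.inr (Or.inl hx'))
    · rw [((hT.ta_central le_rfl (by omega)) _).eq] at hx'
      exact Or.inr (Or.inr (Or.inr hx'))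

/-- The commutator with the element of order four. -/
def kap (a : T) (k : ℕ) (x : T) : T := (four a k)⁻¹ * (x * four a k * x⁻¹)

theorem kappa_mem (hT : BFac a b k l) (hkl : l < k) (hk : 2 ≤ k) (x : T) :
    kap a k x = 1 ∨ kap a k x = top a k := by
  obtain ⟨Q, _, _, q, hQ, hker⟩ := hT.quot (by omega) (hT.ta_central hkl.le (by omega))
  have hc : Commute (q x) (q (four a k)) := by
    have := hQ.ta_central (by omega) (by omega) (q x)
    rwa [top, show k - 1 - 1 = k - 2 by omega, ← map_pow] at this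
  refine hker _ ?_
  simp only [kap, map_mul, map_inv]
  rw [hc.eq, mul_inv_cancel_right, inv_mul_cancel]

theorem kappa_mem_inE (hT : BFac a b k l) (hkl : l ≤ k) (hl : 2 ≤ l) (x : T) :
    InE (top a k) (top b l) (kap a k x) := by
  rcases hkl.lt_or_eq with h | rfl
  · rcases hT.kappa_mem h (by omega) x with h' | h'
    · exact Or.inl h'
    · exact Or.inr (Or.inl h')
  · obtain ⟨Q, _, _, q, hQ, hker⟩ := hT.quot_two hl
    have hc : Commute (q x) (q (four a l)) := by
      have := hQ.ta_central le_rfl (by omega) (q x)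
      rwa [top, show l - 1 - 1 = l - 2 by omega, ← map_pow] at this
    refine hker _ ?_
    simp only [kap, map_mul, map_inv]
    rw [hc.eq, mul_inv_cancel_right, inv_mul_cancel]

theorem inE_central (hT : BFac a b k k) (hk : 1 ≤ k) {e : T} (he : InE (top a k) (top b k) e)
    (x : T) : Commute x e := by
  rcases he with rfl | rfl | rfl | rfl
  · exact Commute.one_right x
  · exact hT.ta_central le_rfl hk x
  · exact hT.swap.ta_central le_rfl hk x
  · exact (hT.ta_central le_rfl hk x).mul_right (hT.swap.ta_central le_rfl hk x)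

theorem inE_sq (hT : BFac a b k l) (hkl : l ≤ k) (hl : 1 ≤ l) {e : T}
    (he : InE (top a k) (top b l) e) : e * e = 1 := by
  rcases he with rfl | rfl | rfl | rfl
  · exact one_mul 1
  · exact top_sq hT.oa (by omega)
  · exact top_sq hT.ob hl
  · have hc := hT.ta_central hkl (by omega) (top b l)
    rw [show top a k * top b l * (top a k * top b l) =
      top a k * (top b l * top a k) * top b l by group, hc.eq, ← mul_assoc, top_sq hT.oa (by omega),
      one_mul, top_sq hT.ob hl]

theorem kappa_central (hT : BFac a b k l) (hkl : l ≤ k) (hl : 2 ≤ l) (x y : T) :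
    Commute y (kap a k x) := by
  rcases hkl.lt_or_eq with h | rfl
  · rcases hT.kappa_mem h (by omega) x with h' | h' <;> rw [h']
    · exact Commute.one_right y
    · exact hT.ta_central hkl (by omega) y
  · exact hT.inE_central (by omega) (hT.kappa_mem_inE le_rfl hl x) y

theorem conj_four (a : T) (k : ℕ) (x : T) : x * four a k * x⁻¹ = four a k * kap a k x := by
  rw [kap]; group

theorem sq_comm_four (hT : BFac a b k l) (hkl : l ≤ k) (hl : 2 ≤ l) (x : T) :
    Commute (x * x) (four a k) := by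
  have hc := hT.kappa_central hkl hl x x
  have h2 := hT.inE_sq hkl (by omega) (hT.kappa_mem_inE hkl hl x)
  have h : x * x * four a k * (x * x)⁻¹ = four a k := by
    calc x * x * four a k * (x * x)⁻¹ = x * (four a k * kap a k x) * x⁻¹ := by
          rw [← conj_four]; group
      _ = (x * four a k * x⁻¹) * (x * kap a k x * x⁻¹) := by group
      _ = four a k * (kap a k x * kap a k x) := by
          rw [conj_four, hc.eq, mul_inv_cancel_right, mul_assoc]
      _ = four a k := by rw [h2, mul_one]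
  exact mul_inv_eq_iff_eq_mul.1 h

theorem comm_four_top (hT : BFac a b k l) (hkl : l ≤ k) (hl : 2 ≤ l) :
    Commute (four a k) (top b l) := by
  rw [← four_sq hl]
  exact (hT.sq_comm_four hkl hl (four b l)).symm

theorem comm_four_four (hT : BFac a b k k) (hk : 3 ≤ k) :
    Commute (four a k) (four b k) := by
  have h : four b k = b ^ 2 ^ (k - 3) * b ^ 2 ^ (k - 3) := by
    rw [four, ← pow_add, ← two_mul, ← pow_succ', show k - 3 + 1 = k - 2 by omega]
  rw [h]
  exact (hT.sq_comm_four le_rfl (by omega) _).symm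

end BFac

theorem inv_even : ∀ (n : ℕ) {T : Type u} [Group T] [Finite T] {a b : T} {k l : ℕ}, k + l = n →
    BFac a b k l → l ≤ k → 2 ≤ l → ∀ i j : ℕ, a ^ i * b ^ j * (a ^ i * b ^ j) = 1 → Even i →
      a ^ (2 * i) = 1 ∧ b ^ (2 * j) = 1 := by
  intro n
  induction n using Nat.strong_induction_on with
  | _ n ih =>
    intro T _ _ a b k l hn hT hkl hl i j hsq hi
    have key : Commute (a ^ i) (b ^ j) → a ^ (2 * i) = 1 ∧ b ^ (2 * j) = 1 := fun hc =>
      hT.disj_mul (by rw [two_mul, two_mul, pow_add, pow_add, hc.mul_mul_mul_comm, hsq])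
    rcases hkl.lt_or_eq with hlt | heq
    · obtain ⟨Q, _, _, q, hQ, hker⟩ := hT.quot (by omega) (hT.ta_central hkl (by omega))
      obtain ⟨h1, h2⟩ := ih (k - 1 + l) (by omega) rfl hQ (by omega) hl i j
        (by simp only [← map_pow, ← map_mul, hsq, map_one]) hi
      rw [← map_pow] at h1 h2
      have h1' : a ^ (4 * i) = 1 := by
        rw [show 4 * i = 2 * i + 2 * i by ring, pow_add]
        rcases hker _ h1 with h | h <;> rw [h]
        · exact one_mul 1
        · exact BFac.top_sq hT.oa (by omega)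
      have h2' : b ^ (2 * j) = 1 := by
        rcases hker _ h2 with h | h
        · exact h
        · exact absurd (hT.disj _ _ h.symm) (BFac.top_ne hT.oa (by omega))
      obtain ⟨c, hc⟩ := BFac.eq_four_pow hT.oa (by omega) h1'
      refine key ?_
      rw [hc]
      rcases BFac.sq_cases hT.ob (by omega) h2' with h | h <;> rw [h]
      · exact Commute.one_right _
      · exact (hT.comm_four_top hkl hl).pow_left c
    · subst heq
      rcases Nat.lt_or_ge l 3 with hl3 | hl3
      · obtain rfl : l = 2 := by omega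
        refine key ?_
        obtain ⟨c, rfl⟩ := hi
        rw [← two_mul, pow_mul]
        exact ((hT.ta_central le_rfl one_le_two (b ^ j)).pow_right c).symm
      · obtain ⟨Q, _, _, q, hQ, hker⟩ := hT.quot_two hl
        obtain ⟨h1, h2⟩ := ih (l - 1 + (l - 1)) (by omega) rfl hQ le_rfl (by omega) i j
          (by simp only [← map_pow, ← map_mul, hsq, map_one]) hi
        rw [← map_pow] at h1 h2
        have h1' : a ^ (4 * i) = 1 := by
          rw [show 4 * i = 2 * i + 2 * i by ring, pow_add]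
          exact hT.inE_sq le_rfl (by omega) (hker _ h1)
        have h2' : b ^ (4 * j) = 1 := by
          rw [show 4 * j = 2 * j + 2 * j by ring, pow_add]
          exact hT.inE_sq le_rfl (by omega) (hker _ h2)
        obtain ⟨c, hc⟩ := BFac.eq_four_pow hT.oa hl h1'
        obtain ⟨d, hd⟩ := BFac.eq_four_pow hT.ob hl h2'
        refine key ?_
        rw [hc, hd]
        exact (hT.comm_four_four hl3).pow_pow c d

namespace BFac

variable [Finite T] {a b : T} {k l : ℕ}

/-- The homomorphism cutting out `⟨a²⟩⟨b⟩`. -/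
theorem exists_sign (hT : BFac a b k l) (hk : 1 ≤ k) :
    ∃ θ : T →* ℤˣ, θ a = -1 ∧ θ b = 1 := by
  haveI : Fact (Nat.Prime 2) := ⟨Nat.prime_two⟩
  classical
  obtain ⟨K, hK, hbK⟩ := Sylow.exists_subgroup_card_pow_prime_le (p := 2) (G := T) (m := k + l - 1)
    (n := l) (by rw [hT.card_eq]; exact pow_dvd_pow 2 (by omega)) (Subgroup.zpowers b)
    (by rw [Nat.card_zpowers, hT.ob]) (by omega)
  have hidx : K.index = 2 := by
    have h := K.card_mul_index
    rw [hK, hT.card_eq, show k + l = k + l - 1 + 1 by omega, pow_succ] at h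
    simpa using Nat.eq_of_mul_eq_mul_left (by positivity) h
  have hb : b ∈ K := hbK (Subgroup.mem_zpowers b)
  have ha : a ∉ K := fun ha => by
    have : K = ⊤ := eq_top_iff.2 fun x _ => by
      obtain ⟨i, j, rfl⟩ := hT.surj x
      exact mul_mem (pow_mem ha _) (pow_mem hb _)
    rw [this, Subgroup.index_top] at hidx
    omega
  refine ⟨MonoidHom.mk' (fun x => if x ∈ K then 1 else -1) fun x y => ?_, ?_, ?_⟩
  · have h := Subgroup.mul_mem_iff_of_index_two hidx (a := x) (b := y)
    by_cases hx : x ∈ K <;> by_cases hy : y ∈ K <;> simp [hx, hy, h]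
  · simp [ha]
  · simp [hb]

theorem sign_repr {θ : T →* ℤˣ} (ha : θ a = -1) (hb : θ b = 1) (i j : ℕ) :
    θ (a ^ i * b ^ j) = (-1) ^ i := by
  rw [map_mul, map_pow, map_pow, ha, hb, one_pow, mul_one]

/-- The involutions in the kernel of the sign. -/
theorem inE_of_sign (hT : BFac a b k l) (hkl : l ≤ k) (hl : 2 ≤ l) {θ : T →* ℤˣ} (ha : θ a = -1)
    (hb : θ b = 1) {x : T} (hx : x * x = 1) (hθ : θ x = 1) : InE (top a k) (top b l) x := by
  obtain ⟨i, j, rfl⟩ := hT.surj x
  rw [sign_repr ha hb] at hθ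
  have hi : Even i := (Nat.even_or_odd i).resolve_right fun h => by
    rw [Odd.neg_one_pow h] at hθ
    exact absurd hθ (by decide)
  obtain ⟨h1, h2⟩ := inv_even _ rfl hT hkl hl i j hx hi
  rcases sq_cases hT.oa (by omega) h1 with h1' | h1' <;>
    rcases sq_cases hT.ob (by omega) h2 with h2' | h2' <;> rw [h1', h2']
  · exact Or.inl (one_mul 1)
  · exact Or.inr (Or.inr (Or.inl (one_mul _)))
  · exact Or.inr (Or.inl (mul_one _))
  · exact Or.inr (Or.inr (Or.inr rfl))

end BFac

end Cfsg.Agent.CyclicZFactor
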