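import Cfsg.Agent.Lib.PSL2.Elements
import Cfsg.Agent.Lib.PSL2.Overgroups
import Cfsg.Agent.Lib.AutPSL.Count
import Cfsg.Agent.Lib.AltAut.Odd
import Cfsg.Agent.S2119
import Mathlib.GroupTheory.SpecificGroups.ZGroup

/-!
# Order bounds for products of a cyclic group and a Z-group (owner: helper91)

* `card_le_sq` : a Z-group is at most the square of its largest element order
* `card_dvd_of_factor` : the bound on a normal subgroup of a factorised group
* `exponent_one` : the field is prime
* `pglEquivAut` : the automorphism group over a prime field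
* `alt_seven_false` : no factorisation above `A₇`
-/

set_option autoImplicit false
set_option linter.style.haveILetI false

namespace Cfsg.Agent.CyclicZFactor

/-- A Z-group is at most the square of its largest element order. -/
theorem card_le_sq {H : Type*} [Group H] [Finite H] [IsZGroup H] {M : ℕ}
    (h : ∀ x : H, orderOf x ≤ M) : Nat.card H ≤ M * M := by
  rw [← (commutator H).card_mul_index]
  refine Nat.mul_le_mul ?_ ?_
  · haveI := IsZGroup.isCyclic_commutator (G := H)
    obtain ⟨g, hg⟩ := IsCyclic.exists_ofOrder_eq_natCard (α := commutator H)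
    rw [← hg, ← Subgroup.orderOf_coe]
    exact h g
  · rw [Subgroup.index_eq_card]
    show Nat.card (Abelianization H) ≤ M
    obtain ⟨g, hg⟩ := IsCyclic.exists_ofOrder_eq_natCard (α := Abelianization H)
    obtain ⟨x, rfl⟩ := QuotientGroup.mk'_surjective (commutator H) g
    rw [← hg]
    exact (Nat.le_of_dvd (orderOf_pos x)
      (orderOf_map_dvd (QuotientGroup.mk' (commutator H)) x)).trans (h x)

/-- The bound for a normal subgroup of a factorised group. -/
theorem card_dvd_of_factor {G : Type*} [Group G] [Finite G] (P A B : Subgroup G) [P.Normal]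
    (hAB : Nat.card G = Nat.card A * Nat.card B) :
    Nat.card P ∣ Nat.card ↥(A ⊓ P) * Nat.card ↥(B ⊓ P) * P.index := by
  have key : ∀ K : Subgroup G, Nat.card K ∣ Nat.card ↥(K ⊓ P) * P.index := by
    intro K
    have h := (P.subgroupOf K).card_mul_index
    have e : Nat.card (P.subgroupOf K) = Nat.card ↥(K ⊓ P) :=
      Nat.card_congr ((MulEquiv.subgroupCongr (Subgroup.inf_subgroupOf_left P K).symm).trans
        (Subgroup.subgroupOfEquivOfLe (inf_le_left : K ⊓ P ≤ K))).toEquiv
    rw [← h, e]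
    exact Nat.mul_dvd_mul_left _ (Subgroup.relIndex_dvd_index_of_normal P K)
  have h := Nat.mul_dvd_mul (key A) (key B)
  rw [← hAB, ← P.card_mul_index] at h
  refine Nat.dvd_of_mul_dvd_mul_right (Nat.pos_of_ne_zero P.index_ne_zero_of_finite) ?_
  convert h using 1
  ring

theorem pow_growth {p : ℕ} (hp : 3 ≤ p) : ∀ g : ℕ, p * (1 + g * 2) ≤ p ^ (g + 1)
  | 0 => by simp
  | g + 1 => by
    rw [pow_succ' p (g + 1)]
    refine le_trans (Nat.mul_le_mul_left p ?_) (Nat.mul_le_mul_left p (pow_growth hp g))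
    nlinarith [Nat.mul_le_mul_right (1 + g * 2) hp]

section PSL

open Matrix
open scoped MatrixGroups

variable {F : Type} [Field F] [Finite F]

/-- Only prime fields occur. -/
theorem exponent_one (p f : ℕ) [hp : Fact p.Prime] [CharP F p] (hf : 1 ≤ f)
    (hq : Nat.card F = p ^ f) (hp2 : p ≠ 2) {c : ℕ} (hc : c ∣ 2 * f)
    (x : PSL2.PSL2 F) (H : Subgroup (PSL2.PSL2 F)) [IsZGroup H]
    (hdiv : Nat.card (PSL2.PSL2 F) ∣ orderOf x * Nat.card H * c) : f = 1 := by
  have hp' := hp.out
  have hoddp : Odd p := hp'.odd_of_ne_two hp2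
  obtain ⟨r, hr⟩ : Odd (Nat.card F) := hq ▸ hoddp.pow
  have hgcd : Nat.gcd 2 (Nat.card F - 1) = 2 := by
    rw [hr]; exact Nat.gcd_eq_left ⟨r, by omega⟩
  have hcard : Nat.card (PSL2.PSL2 F) = 2 * (p ^ f * (r * (r + 1))) := by
    have h := PSL2.card_psl_mul (F := F)
    rw [hgcd, hr, show 2 * r + 1 - 1 = 2 * r by omega] at h
    rw [← hq, hr]
    have : 2 * Nat.card (PSL2.PSL2 F) = 2 * (2 * ((2 * r + 1) * (r * (r + 1)))) := by rw [h]; ring
    omega
  have hord : ∀ y : PSL2.PSL2 F, orderOf y ∣ p ∨ orderOf y ∣ r ∨ orderOf y ∣ r + 1 := by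
    intro y
    have h : orderOf y ∈ Set.range (orderOf : PSL2.PSL2 F → ℕ) := ⟨y, rfl⟩
    rw [PSL2.range_psl_orderOf p, Set.mem_ofPred_eq, hgcd, hr] at h
    rwa [show (2 * r + 1 - 1) / 2 = r by omega, show (2 * r + 1 + 1) / 2 = r + 1 by omega] at h
  have hcop : Nat.Coprime p (r * (r + 1)) := by
    rw [hp'.coprime_iff_not_dvd]
    intro h
    have h2 : p ∣ 2 * r + 1 := by rw [← hr, hq]; exact dvd_pow_self p (by omega)
    rcases hp'.dvd_mul.1 h with h' | h'
    · have := (Nat.dvd_add_right (h'.mul_left 2)).1 h2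
      exact hp'.ne_one (Nat.dvd_one.1 this)
    · have h3 : p ∣ 2 * r + 1 + 1 := (show 2 * r + 1 + 1 = 2 * (r + 1) by ring) ▸ h'.mul_left 2
      have := (Nat.dvd_add_right h2).1 h3
      exact hp'.ne_one (Nat.dvd_one.1 this)
  have hHdvd : Nat.card H ∣ p * (r * (r + 1)) := by
    rw [← IsZGroup.exponent_eq_card H, Monoid.exponent_dvd]
    intro y
    rw [← Subgroup.orderOf_coe]
    rcases hord y with h | h | h
    · exact h.mul_right _
    · exact (h.mul_right _).mul_left _
    · exact (h.mul_left _).mul_left _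
  have hxdvd : orderOf x ∣ p * (r * (r + 1)) := by
    rcases hord x with h | h | h
    · exact h.mul_right _
    · exact (h.mul_right _).mul_left _
    · exact (h.mul_left _).mul_left _
  -- the `p`-part
  have hqd : p ^ f ∣ orderOf x * Nat.card H * (2 * f) := by
    refine dvd_trans ?_ (hdiv.trans (Nat.mul_dvd_mul_left _ hc))
    rw [hcard]
    exact Dvd.intro_left _ rfl |>.trans (Nat.mul_dvd_mul_left 2 (Dvd.intro _ rfl))
  have hf3 : p ^ f ∣ p ^ 2 * f := by
    have h1 : p ^ f ∣ p ^ 2 * (r * (r + 1) * (r * (r + 1)) * 2) * f :=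
      hqd.trans ((Nat.mul_dvd_mul_right (Nat.mul_dvd_mul hxdvd hHdvd) (2 * f)).trans
        (dvd_of_eq (by ring)))
    rw [show p ^ 2 * (r * (r + 1) * (r * (r + 1)) * 2) * f =
      p ^ 2 * f * (r * (r + 1) * (r * (r + 1)) * 2) by ring] at h1
    refine (Nat.Coprime.pow_left f ?_).dvd_of_dvd_mul_right h1
    exact (hcop.mul_right hcop).mul_right ((Nat.coprime_primes hp' Nat.prime_two).2 hp2)
  have hp3 : 3 ≤ p := by have := hp'.two_le; omega
  by_contra hf1
  have hf2 : f = 2 ∨ f = 3 ∧ p = 3 := by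
    rcases Nat.lt_or_ge f 3 with h | h
    · left; omega
    · right
      obtain ⟨g, rfl⟩ : ∃ g, f = g + 3 := ⟨f - 3, by omega⟩
      rw [show g + 3 = 2 + (g + 1) by omega, pow_add] at hf3
      have hd := Nat.le_of_dvd (by omega) (Nat.dvd_of_mul_dvd_mul_left (by positivity) hf3)
      have hge := pow_growth hp3 g
      constructor <;> nlinarith
  -- `x` is a `p`-element
  have hxp : orderOf x ∣ p := by
    rcases hord x with h | h | h
    · exact h
    all_goals
      exfalso
      have h' : orderOf x ∣ r * (r + 1) := by first | exact h.mul_right _ | exact h.mul_left _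
      have h1 : p ^ f ∣ p * (2 * f) * (r * (r + 1) * (r * (r + 1))) :=
        hqd.trans ((Nat.mul_dvd_mul_right (Nat.mul_dvd_mul h' hHdvd) (2 * f)).trans
          (dvd_of_eq (by ring)))
      have h2 := (Nat.Coprime.pow_left f (hcop.mul_right hcop)).dvd_of_dvd_mul_right h1
      rcases hf2 with rfl | ⟨rfl, rfl⟩
      · rw [sq] at h2
        have h3 : p ∣ 2 * 2 := Nat.dvd_of_mul_dvd_mul_left hp'.pos h2
        rcases hp'.dvd_mul.1 h3 with h4 | h4 <;>
          exact hp2 ((Nat.prime_dvd_prime_iff_eq hp' Nat.prime_two).1 h4)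
      · norm_num at h2
  have hr4 : 4 ≤ r := by
    have h9 : 9 ≤ p ^ f := le_trans (by nlinarith : 9 ≤ p ^ 2) (Nat.pow_le_pow_right hp'.pos (by omega))
    omega
  have hpr : p ≤ r + 1 := by
    have : p ^ 2 ≤ p ^ f := Nat.pow_le_pow_right hp'.pos (by omega)
    nlinarith
  have hb : Nat.card H ≤ (r + 1) * (r + 1) := card_le_sq fun y => by
    rw [← Subgroup.orderOf_coe]
    rcases hord y with h | h | h
    · exact (Nat.le_of_dvd hp'.pos h).trans hpr
    · exact (Nat.le_of_dvd (by omega) h).trans (by omega)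
    · exact Nat.le_of_dvd (by omega) h
  have hc' : c ≤ 2 * f := Nat.le_of_dvd (by omega) hc
  have hle := Nat.le_of_dvd (Nat.mul_pos (Nat.mul_pos (orderOf_pos x) Nat.card_pos)
    (Nat.pos_of_dvd_of_pos hc (by omega))) hdiv
  have hle' : 2 * (p ^ f * (r * (r + 1))) ≤ p * ((r + 1) * (r + 1)) * (2 * f) := by
    rw [← hcard]
    exact hle.trans (Nat.mul_le_mul (Nat.mul_le_mul (Nat.le_of_dvd hp'.pos hxp) hb) hc')
  rw [hr] at hq
  rcases hf2 with rfl | ⟨rfl, rfl⟩
  · have h5 : 2 * (p * (r + 1)) * (p * r) ≤ 2 * (p * (r + 1)) * (2 * (r + 1)) := by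
      calc 2 * (p * (r + 1)) * (p * r) = 2 * (p ^ 2 * (r * (r + 1))) := by ring
        _ ≤ p * ((r + 1) * (r + 1)) * (2 * 2) := hle'
        _ = _ := by ring
    have h6 := Nat.le_of_mul_le_mul_left h5 (Nat.mul_pos two_pos (Nat.mul_pos hp'.pos (by omega)))
    nlinarith
  · have : r = 13 := by norm_num at hq; omega
    subst this
    norm_num at hle'

/-- Over a prime field every automorphism is a projective matrix. -/
theorem nonempty_pglEquivAut [Fintype F] (p : ℕ) [Fact p.Prime] (hq : Fintype.card F = p) :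
    Nonempty ((GL (Fin 2) F ⧸ Subgroup.center (GL (Fin 2) F)) ≃* MulAut (PSL2.PSL2 F)) := by
  obtain ⟨-, hcard⟩ := AutPSL.fieldAut_facts (F := F) p 1 le_rfl (by rw [pow_one]; exact hq)
  haveI : Finite (F ≃+* F) := Finite.of_injective _ DFunLike.coe_injective
  haveI : Subsingleton (F ≃+* F) := Finite.card_le_one_iff_subsingleton.1 hcard.le
  let ρ : GL (Fin 2) F →* MulAut (PSL2.PSL2 F) :=
    MonoidHom.mk' (fun g => AutPSL.semi g (RingEquiv.refl F))
      fun g h => (AutPSL.semi_refl_mul (m := 0) g h).symm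
  have hker : ρ.ker = Subgroup.center (GL (Fin 2) F) := by
    ext g
    exact (AutPSL.semi_eq_one_iff (m := 0) (g := g) (σ := RingEquiv.refl F)).trans
      ⟨fun h => h.2, fun h => ⟨rfl, h⟩⟩
  have hsurj : Function.Surjective ρ := fun α => by
    obtain ⟨g, σ, hα⟩ := AutPSL.exists_semi_of_two α
    exact ⟨g, by rw [hα, Subsingleton.elim σ (RingEquiv.refl F)]; rfl⟩
  exact ⟨(QuotientGroup.quotientMulEquivOfEq hker.symm).trans
    (QuotientGroup.quotientKerEquivOfSurjective ρ hsurj)⟩

end PSL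

section Alt

/-- Element orders in the symmetric group of degree seven. -/
theorem orderOf_perm_seven_le (σ : Equiv.Perm (Fin 7)) : orderOf σ ≤ 12 := by
  rw [← Equiv.Perm.lcm_cycleType]
  have h2 : ∀ c ∈ σ.cycleType, 2 ≤ c := fun c => Equiv.Perm.two_le_of_mem_cycleType
  have hsum : σ.cycleType.sum ≤ 7 := by
    rw [Equiv.Perm.sum_cycleType]
    exact (Finset.card_le_univ _).trans (le_of_eq (Fintype.card_fin 7))
  refine (Nat.le_of_dvd (Nat.pos_of_ne_zero ?_) (Multiset.lcm_dvd.2 fun c hc => Multiset.dvd_prod hc)).trans ?_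
  · exact Multiset.prod_ne_zero fun h => absurd (h2 0 h) (by omega)
  · have hcard : σ.cycleType.card ≤ 3 := by
      have := Multiset.card_nsmul_le_sum h2
      rw [smul_eq_mul] at this
      omega
    obtain h | h | h | h : σ.cycleType.card = 0 ∨ σ.cycleType.card = 1 ∨ σ.cycleType.card = 2 ∨
        σ.cycleType.card = 3 := by omega
    · rw [Multiset.card_eq_zero.1 h]; norm_num
    · obtain ⟨a, ha⟩ := Multiset.card_eq_one.1 h
      rw [ha] at hsum ⊢
      simp at hsum ⊢
      omega
    · obtain ⟨a, b, ha⟩ := Multiset.card_eq_two.1 h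
      rw [ha] at hsum h2 ⊢
      simp at hsum h2 ⊢
      obtain ⟨h21, h22⟩ := h2
      have : a ≤ 5 := by omega
      interval_cases a <;> omega
    · obtain ⟨a, b, c, ha⟩ := Multiset.card_eq_three.1 h
      rw [ha] at hsum h2 ⊢
      simp at hsum h2 ⊢
      obtain ⟨h21, h22, h23⟩ := h2
      have : a ≤ 3 := by omega
      have : b ≤ 3 := by omega
      interval_cases a <;> interval_cases b <;> omega

/-- No factorisation above `A₇`. -/
theorem alt_seven_false {G : Type*} [Group G] [Finite G]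
    (φ : G →* MulAut (alternatingGroup (Fin 7))) (hφ : Function.Injective φ)
    (A B : Subgroup G) [IsCyclic A] [IsZGroup B] (hAB : Nat.card G = Nat.card A * Nat.card B)
    (hbig : 2520 ≤ Nat.card G) : False := by
  have hconj : ∀ θ : MulAut (alternatingGroup (Fin 7)), ∃ σ : Equiv.Perm (Fin 7),
      MulAut.conjNormal σ = θ := fun θ =>
    AltAut.exists_conjNormal_of_threeCycle (by norm_num) θ (AltAut.threeCycle_of_ne_six (by norm_num) θ)
  have hle : ∀ g : G, orderOf g ≤ 12 := fun g => by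
    obtain ⟨σ, hσ⟩ := hconj (φ g)
    rw [← orderOf_injective φ hφ g, ← hσ]
    exact (Nat.le_of_dvd (orderOf_pos σ) (orderOf_map_dvd _ σ)).trans (orderOf_perm_seven_le σ)
  obtain ⟨a, ha⟩ := IsCyclic.exists_ofOrder_eq_natCard (α := A)
  have h1 : Nat.card A ≤ 12 := by rw [← ha, ← Subgroup.orderOf_coe]; exact hle _
  have h2 : Nat.card B ≤ 12 * 12 := card_le_sq fun y => by
    rw [← Subgroup.orderOf_coe]; exact hle _
  have := Nat.mul_le_mul h1 h2
  omega

end Alt

end Cfsg.Agent.CyclicZFactor
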