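import Cfsg.Agent.Lib.CyclicZFactor.Bicyclic
import Cfsg.Agent.Lib.ZGroupReduce.Basic
import Cfsg.Agent.Lib.DGroup.Fused

/-!
# Fusion in a Sylow 2-subgroup `⟨a⟩⟨b⟩` coming from a factorisation (owner: helper91)

* `Setup` : what is used of a factorisation `G = AB` with trivial radical
* `Setup.not_both` : one of the two cyclic parts has order at most 2
-/

set_option autoImplicit false
set_option linter.style.haveILetI false
set_option linter.unusedSectionVars false

namespace Cfsg.Agent.CyclicZFactor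

open BFac

variable {G : Type*} [Group G]

structure Setup (G : Type*) [Group G] where
  T : Sylow 2 G
  a : (T : Subgroup G)
  b : (T : Subgroup G)
  k : ℕ
  l : ℕ
  fac : BFac a b k l
  noniso : ∀ z : G, ¬ Cfsg.IsIsolatedInvolution z
  fus : ∀ i j : ℕ, IsConj ((a : G) ^ i) ((b : G) ^ j) → (a : G) ^ i = 1
  χ : G →* ℤˣ
  ψ : G →* ℤˣ
  χa : 1 ≤ k → χ a = -1
  ψb : 1 ≤ l → ψ b = -1
  pair : (∀ x : (T : Subgroup G), Commute x (top a k)) →
    (∀ x : (T : Subgroup G), Commute x (top b l)) →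
    ∀ u v : G, IsConj ((top a k : (T : Subgroup G)) : G) u →
      IsConj ((top b l : (T : Subgroup G)) : G) v → Commute u v →
      IsConj ((top a k * top b l : (T : Subgroup G)) : G) (u * v)

namespace Setup

variable [Finite G] (S : Setup G)

local notation "Tp" => (Setup.T S : Subgroup G)

theorem fus_symm (j i : ℕ) (h : IsConj ((S.b : G) ^ j) ((S.a : G) ^ i)) : (S.b : G) ^ j = 1 := by
  rw [S.fus i j h.symm] at h
  exact isConj_one_left.1 h

@[reducible] def swap : Setup G where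
  T := S.T
  a := S.b
  b := S.a
  k := S.l
  l := S.k
  fac := S.fac.swap
  noniso := S.noniso
  fus := S.fus_symm
  χ := S.ψ
  ψ := S.χ
  χa := S.ψb
  ψb := S.χa
  pair hb ha u v hu hv huv := by
    rw [(ha (top S.b S.l)).eq, huv.eq]
    exact S.pair ha hb v u hv hu huv.symm

theorem coe_sq {x : Tp} (h : x * x = 1) : (x : G) * (x : G) = 1 := by
  rw [← Subgroup.coe_mul, h, Subgroup.coe_one]

theorem sq_of_isConj {z x : Tp} (hz : z * z = 1) (h : IsConj (z : G) (x : G)) : x * x = 1 := by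
  obtain ⟨c, hc⟩ := isConj_iff.1 h
  refine Subtype.ext ?_
  rw [Subgroup.coe_mul, ← hc, show c * z * c⁻¹ * (c * z * c⁻¹) = c * (z * z) * c⁻¹ by group,
    S.coe_sq hz]
  simp

theorem ne_one_of_isConj {z x : Tp} (hz : z ≠ 1) (h : IsConj (z : G) (x : G)) : x ≠ 1 := by
  rintro rfl
  rw [Subgroup.coe_one, isConj_one_left] at h
  exact hz (Subtype.ext h)

/-- The involutions of the two cyclic parts are not conjugate. -/
theorem top_not_conj (hk : 1 ≤ S.k) :
    ¬ IsConj ((top S.a S.k : Tp) : G) ((top S.b S.l : Tp) : G) := by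
  intro h
  simp only [top, SubgroupClass.coe_pow] at h
  refine top_ne S.fac.oa hk (Subtype.ext ?_)
  simp only [top, SubgroupClass.coe_pow, Subgroup.coe_one]
  exact S.fus _ _ h

theorem le_centralizer {z : Tp} (hz : ∀ x : Tp, Commute x z) :
    Tp ≤ Subgroup.centralizer ({(z : G)} : Set G) := fun x hx =>
  Subgroup.mem_centralizer_singleton_iff.2 (congrArg Subtype.val (hz ⟨x, hx⟩).eq)

/-- A non-isolated central involution of `T` fuses to another element of `T`. -/
theorem exists_fused {z : Tp} (hz2 : z * z = 1) (hz1 : z ≠ 1) (hz : ∀ x : Tp, Commute x z) :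
    ∃ s : Tp, s ≠ z ∧ IsConj (z : G) (s : G) := by
  haveI : Fact (Nat.Prime 2) := ⟨Nat.prime_two⟩
  have ho : orderOf (z : G) = 2 := Involution.orderOf_of_sq (S.coe_sq hz2)
    fun h => hz1 (Subtype.ext h)
  have h0 := S.noniso (z : G)
  unfold Cfsg.IsIsolatedInvolution at h0
  push Not at h0
  obtain ⟨g, hg, hne⟩ := h0 ho
  have hu : g * (z : G) * g⁻¹ ∈ Subgroup.centralizer ({(z : G)} : Set G) :=
    Subgroup.mem_centralizer_singleton_iff.2 hg.symm.eq
  obtain ⟨c, hcC, hc⟩ := DGroup.exists_conj_into S.T (S.le_centralizer hz)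
    (IsPGroup.of_card (p := 2) (G := Subgroup.zpowers (g * (z : G) * g⁻¹)) (n := 1)
      (by rw [Nat.card_zpowers, Involution.orderOf_conj, ho, pow_one]))
    (Subgroup.zpowers_le.2 hu)
  refine ⟨⟨_, hc _ (Subgroup.mem_zpowers _)⟩, fun h => hne ?_, isConj_iff.2 ⟨c * g, by group⟩⟩
  have h' : c * (g * (z : G) * g⁻¹) * c⁻¹ = (z : G) := congrArg Subtype.val h
  have hcz : c * (z : G) = z * c := Subgroup.mem_centralizer_singleton_iff.1 hcC
  calc g * (z : G) * g⁻¹ = c⁻¹ * (c * (g * (z : G) * g⁻¹) * c⁻¹) * c := by group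
    _ = c⁻¹ * (z * c) := by rw [h', mul_assoc]
    _ = z := by rw [← hcz, inv_mul_cancel_left]

/-- An extremal conjugating element. -/
theorem exists_extremal {z s : Tp} (hz : ∀ x : Tp, Commute x z) (h : IsConj (z : G) (s : G)) :
    ∃ g : G, g * (s : G) * g⁻¹ = z ∧ ∀ w : Tp, Commute w s → g * (w : G) * g⁻¹ ∈ Tp := by
  haveI : Fact (Nat.Prime 2) := ⟨Nat.prime_two⟩
  obtain ⟨g, hg⟩ := isConj_iff.1 h.symm
  set X := (Tp ⊓ Subgroup.centralizer ({(s : G)} : Set G)).map (MulAut.conj g).toMonoidHom with hX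
  obtain ⟨c, hcC, hc⟩ := DGroup.exists_conj_into S.T (S.le_centralizer hz) (X := X)
    ((S.T.isPGroup'.to_le inf_le_left).map _) (by
      rintro _ ⟨w, hw, rfl⟩
      show g * w * g⁻¹ ∈ Subgroup.centralizer ({(z : G)} : Set G)
      rw [Subgroup.mem_centralizer_singleton_iff, ← hg]
      have := Subgroup.mem_centralizer_singleton_iff.1 hw.2
      calc g * w * g⁻¹ * (g * s * g⁻¹) = g * (w * s) * g⁻¹ := by group
        _ = g * (s * w) * g⁻¹ := by rw [this]
        _ = g * s * g⁻¹ * (g * w * g⁻¹) := by group)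
  refine ⟨c * g, ?_, fun w hw => ?_⟩
  · rw [show c * g * (s : G) * (c * g)⁻¹ = c * (g * s * g⁻¹) * c⁻¹ by group, hg,
      Subgroup.mem_centralizer_singleton_iff.1 hcC, mul_inv_cancel_right]
  · rw [show c * g * (w : G) * (c * g)⁻¹ = c * (g * w * g⁻¹) * c⁻¹ by group]
    exact hc _ ⟨w, ⟨w.2, Subgroup.mem_centralizer_singleton_iff.2 (congrArg Subtype.val hw.eq)⟩, rfl⟩

/-- Burnside fusion: if the central involutions of `T` form a four-group `{p, q, p * q}` and `p` is
not conjugate to `q`, then `p` is not conjugate to `p * q`. -/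
theorem not_conj_mul {p q : Tp} (hp : ∀ x : Tp, Commute x p) (hq : ∀ x : Tp, Commute x q)
    (_hp2 : p * p = 1) (hq2 : q * q = 1) (_hp1 : p ≠ 1) (hq1 : q ≠ 1)
    (hall : ∀ x : Tp, x * x = 1 → (∀ y : Tp, Commute y x) → InE p q x)
    (hpq : ¬ IsConj (p : G) (q : G)) : ¬ IsConj (p : G) ((p * q : Tp) : G) := by
  haveI : Fact (Nat.Prime 2) := ⟨Nat.prime_two⟩
  intro hc
  obtain ⟨g, hg⟩ := isConj_iff.1 hc
  have hcen : ∀ {x : Tp}, (∀ y : Tp, Commute y x) →
      (x : G) ∈ Subgroup.centralizer ((Tp : Subgroup G) : Set G) := fun hx =>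
    Subgroup.mem_centralizer_iff.2 fun y hy => congrArg Subtype.val (hx ⟨y, hy⟩).eq
  obtain ⟨n, hn, hn'⟩ := S.T.conj_eq_normalizer_conj_of_mem_centralizer (p : G) g⁻¹ (hcen hp) (by
    rw [inv_inv, hg]
    exact hcen fun y => (hp y).mul_right (hq y))
  rw [inv_inv, hg] at hn'
  -- the action of `m := n⁻¹` on `T`
  set m := n⁻¹ with hm
  have hmN : m ∈ Subgroup.normalizer ((Tp : Subgroup G) : Set G) := inv_mem hn
  have hm' : m * (p : G) * m⁻¹ = ((p * q : Tp) : G) := by rw [hn', hm, inv_inv]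
  have himg : m * (q : G) * m⁻¹ = (q : G) := by
    have hqT : m * (q : G) * m⁻¹ ∈ Tp := (Subgroup.mem_normalizer_iff.1 hmN q).1 q.2
    rcases hall ⟨_, hqT⟩ (Subtype.ext (by
        rw [Subgroup.coe_mul, show m * (q : G) * m⁻¹ * (m * q * m⁻¹) = m * (q * q) * m⁻¹ by group,
          S.coe_sq hq2]
        simp)) (fun y => Subtype.ext (by
        have hy : m⁻¹ * (y : G) * m ∈ Tp := by
          simpa [hm] using (Subgroup.mem_normalizer_iff.1 hn y).1 y.2
        have h := congrArg Subtype.val (hq ⟨_, hy⟩).eq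
        simp only [Subgroup.coe_mul] at h ⊢
        calc (y : G) * (m * q * m⁻¹) = m * (m⁻¹ * y * m * q) * m⁻¹ := by group
          _ = m * (q * (m⁻¹ * y * m)) * m⁻¹ := by rw [h]
          _ = m * q * m⁻¹ * y := by group)) with h | h | h | h
    · have h' : m * (q : G) * m⁻¹ = 1 := congrArg Subtype.val h
      exact absurd (Subtype.ext (conj_eq_one_iff.1 h')) hq1
    · exact absurd (isConj_iff.2 ⟨m, congrArg Subtype.val h⟩).symm hpq
    · exact congrArg Subtype.val h
    · have h' : m * (q : G) * m⁻¹ = ((p * q : Tp) : G) := congrArg Subtype.val h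
      rw [← hm'] at h'
      exact absurd (mul_left_cancel (mul_right_cancel h'))
        fun e => hpq (by rw [e])
  have hmq : m * ((p * q : Tp) : G) * m⁻¹ = (p : G) := by
    rw [Subgroup.coe_mul, show m * ((p : G) * q) * m⁻¹ = m * p * m⁻¹ * (m * q * m⁻¹) by group, hm',
      himg, Subgroup.coe_mul, mul_assoc, S.coe_sq hq2, mul_one]
  -- a 2-element with the same action lies in `T`
  obtain ⟨β, γ, hmul, hco⟩ : ∃ β γ : ℕ, orderOf m = 2 ^ β * γ ∧ Odd γ := by
    obtain ⟨e, d, hd, h⟩ := Nat.exists_eq_two_pow_mul_odd (orderOf_pos m).ne'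
    exact ⟨e, d, h, hd⟩
  have hodd : ∀ c : ℕ, (m ^ (2 * c + 1)) * (p : G) * (m ^ (2 * c + 1))⁻¹ = ((p * q : Tp) : G) := by
    intro c
    induction c with
    | zero => simpa using hm'
    | succ c ih =>
      rw [show 2 * (c + 1) + 1 = 2 + (2 * c + 1) by omega, pow_add,
        show m ^ 2 * m ^ (2 * c + 1) * (p : G) * (m ^ 2 * m ^ (2 * c + 1))⁻¹ =
          m * (m * (m ^ (2 * c + 1) * p * (m ^ (2 * c + 1))⁻¹) * m⁻¹) * m⁻¹ by group, ih, hmq, hm']
  obtain ⟨c, rfl⟩ := hco
  have hT : m ^ (2 * c + 1) ∈ Tp := by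
    have hle : Subgroup.zpowers (m ^ (2 * c + 1)) ≤ Subgroup.normalizer ((Tp : Subgroup G) : Set G) :=
      Subgroup.zpowers_le.2 (pow_mem hmN _)
    have hp' : IsPGroup 2 ↥(Tp ⊔ Subgroup.zpowers (m ^ (2 * c + 1))) :=
      S.T.isPGroup'.to_sup_of_normal_left' (IsPGroup.of_card (n := β) (by
        rw [Nat.card_zpowers, orderOf_pow' m (by omega), hmul, Nat.gcd_eq_right (dvd_mul_left _ _),
          Nat.mul_div_cancel _ (by omega)])) hle
    have := S.T.3 hp' le_sup_left
    rw [← this]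
    exact Subgroup.mem_sup_right (Subgroup.mem_zpowers _)
  have h := congrArg Subtype.val (hp ⟨_, hT⟩).eq
  simp only [Subgroup.coe_mul] at h
  have h' := hodd c
  rw [h, mul_inv_cancel_right, Subgroup.coe_mul] at h'
  exact hq1 (Subtype.ext (left_eq_mul.1 h'))

variable (hkl : S.l ≤ S.k) (hl : 2 ≤ S.l)
include hkl hl

theorem k_two : 2 ≤ S.k := le_trans hl hkl

theorem A_central (x : Tp) : Commute x (top S.a S.k) :=
  S.fac.ta_central hkl (by have := S.k_two hkl hl; omega) x

theorem A_sq : top S.a S.k * top S.a S.k = (1 : Tp) :=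
  top_sq S.fac.oa (by have := S.k_two hkl hl; omega)

theorem A_ne : top S.a S.k ≠ (1 : Tp) := top_ne S.fac.oa (by have := S.k_two hkl hl; omega)

theorem B_sq : top S.b S.l * top S.b S.l = (1 : Tp) := top_sq S.fac.ob (by omega)

theorem B_ne : top S.b S.l ≠ (1 : Tp) := top_ne S.fac.ob (by omega)

theorem chi_top_a : S.χ (top S.a S.k : Tp) = 1 := by
  rw [← four_sq (S.k_two hkl hl), Subgroup.coe_mul, map_mul]
  exact Int.units_mul_self _

theorem chi_top_b : S.χ (top S.b S.l : Tp) = 1 := by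
  rw [← four_sq hl, Subgroup.coe_mul, map_mul]
  exact Int.units_mul_self _

theorem theta_inE {θ : Tp →* ℤˣ} {e : Tp} (he : InE (top S.a S.k) (top S.b S.l) e) : θ e = 1 := by
  rcases he with rfl | rfl | rfl | rfl
  · exact map_one θ
  · rw [← four_sq (S.k_two hkl hl), map_mul]; exact Int.units_mul_self _
  · rw [← four_sq hl, map_mul]; exact Int.units_mul_self _
  · rw [map_mul, ← four_sq (S.k_two hkl hl), ← four_sq hl, map_mul, map_mul, Int.units_mul_self,
      Int.units_mul_self, one_mul]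

theorem central_inE (x : Tp) (hx2 : x * x = 1) (hx : ∀ y : Tp, Commute y x) :
    InE (top S.a S.k) (top S.b S.l) x := by
  obtain ⟨θ, ha, hb⟩ := S.fac.exists_sign (by have := S.k_two hkl hl; omega)
  rcases Int.units_eq_one_or (θ x) with h | h
  · exact S.fac.inE_of_sign hkl hl ha hb hx2 h
  exfalso
  obtain ⟨i, j, rfl⟩ := S.fac.surj x
  rw [sign_repr ha hb] at h
  have hi : Odd i := (Nat.even_or_odd i).resolve_left fun he => by
    rw [Even.neg_one_pow he] at h
    exact absurd h (by decide)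
  have hcomm : Commute S.b (S.a ^ i) := by
    have := (hx S.b).mul_right ((Commute.refl S.b).pow_right j).inv_right
    rwa [mul_inv_cancel_right] at this
  have hi2 : (S.a ^ i) ^ 2 * (S.b ^ j) ^ 2 = 1 := by
    rw [← (hcomm.symm.pow_right j).mul_pow, sq]; exact hx2
  rw [← pow_mul, ← pow_mul] at hi2
  have h2 := (S.fac.disj_mul hi2).1
  rw [pow_eq_one_iff_dvd S.fac.oa] at h2
  have h3 : 2 * 2 ∣ i * 2 := dvd_trans (by exact pow_dvd_pow 2 (S.k_two hkl hl)) h2
  obtain ⟨c, rfl⟩ := hi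
  omega

theorem prod_not_conj : ¬ IsConj ((top S.a S.k : Tp) : G) ((top S.a S.k * top S.b S.l : Tp) : G) := by
  by_cases hB : ∀ x : Tp, Commute x (top S.b S.l)
  · exact S.not_conj_mul (S.A_central hkl hl) hB (S.A_sq hkl hl) (S.B_sq hkl hl) (S.A_ne hkl hl)
      (S.B_ne hkl hl) (S.central_inE hkl hl) (S.top_not_conj (by have := S.k_two hkl hl; omega))
  push Not at hB
  obtain ⟨x, hx⟩ := hB
  obtain ⟨θ, ha, hb⟩ := S.fac.exists_sign (by have := S.k_two hkl hl; omega)
  have h1 : x * top S.b S.l * x⁻¹ * (x * top S.b S.l * x⁻¹) = 1 := by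
    rw [show x * top S.b S.l * x⁻¹ * (x * top S.b S.l * x⁻¹) =
      x * (top S.b S.l * top S.b S.l) * x⁻¹ by group, S.B_sq hkl hl]
    group
  have h2 : θ (x * top S.b S.l * x⁻¹) = 1 := by
    rw [map_mul, map_mul, S.theta_inE hkl hl (Or.inr (Or.inr (Or.inl rfl))), mul_one, map_inv,
      mul_inv_cancel]
  have hconj : IsConj ((top S.b S.l : Tp) : G) ((x * top S.b S.l * x⁻¹ : Tp) : G) :=
    isConj_iff.2 ⟨x, by simp⟩
  have hAB := S.top_not_conj (by have := S.k_two hkl hl; omega)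
  rcases S.fac.inE_of_sign hkl hl ha hb h1 h2 with h | h | h | h
  · exact absurd (conj_eq_one_iff.1 h) (S.B_ne hkl hl)
  · rw [h] at hconj
    exact absurd hconj.symm hAB
  · exact absurd (mul_inv_eq_iff_eq_mul.1 h) hx
  · rw [h] at hconj
    exact fun e => hAB (e.trans hconj.symm)

theorem eq_A_of_inE {x : Tp} (hx : InE (top S.a S.k) (top S.b S.l) x)
    (h : IsConj ((top S.a S.k : Tp) : G) (x : G)) : x = top S.a S.k := by
  rcases hx with rfl | rfl | rfl | rfl
  · exact absurd rfl (S.ne_one_of_isConj (S.A_ne hkl hl) h)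
  · rfl
  · exact absurd h (S.top_not_conj (by have := S.k_two hkl hl; omega))
  · exact absurd h (S.prod_not_conj hkl hl)

/-- An element of `T \ H` with trivial sign has both exponents odd. -/
theorem parity {x : Tp} (hx2 : x * x = 1) (hxE : ¬ InE (top S.a S.k) (top S.b S.l) x)
    (hχ : S.χ x = 1) : ∃ i j : ℕ, x = S.a ^ i * S.b ^ j ∧ Odd i ∧ Odd j := by
  obtain ⟨θ, ha, hb⟩ := S.fac.exists_sign (by have := S.k_two hkl hl; omega)
  obtain ⟨i, j, rfl⟩ := S.fac.surj x
  refine ⟨i, j, rfl, ?_⟩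
  have hi : Odd i := (Nat.even_or_odd i).resolve_left fun he => hxE
    (S.fac.inE_of_sign hkl hl ha hb hx2 (by rw [sign_repr ha hb, Even.neg_one_pow he]))
  refine ⟨hi, (Nat.even_or_odd j).resolve_left fun he => ?_⟩
  rw [Subgroup.coe_mul, map_mul, SubgroupClass.coe_pow, SubgroupClass.coe_pow, map_pow, map_pow,
    S.χa (by have := S.k_two hkl hl; omega), hi.neg_one_pow] at hχ
  rcases Int.units_eq_one_or (S.χ (S.b : G)) with h | h <;> rw [h] at hχ
  · rw [one_pow] at hχ; exact absurd hχ (by decide)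
  · rw [he.neg_one_pow] at hχ; exact absurd hχ (by decide)

/-- The conjugate of `t_a` outside `H`. -/
theorem exists_s : ∃ (s : Tp) (i j : ℕ), s = S.a ^ i * S.b ^ j ∧ Odd i ∧ Odd j ∧ s * s = 1 ∧
    s ≠ top S.a S.k ∧ IsConj ((top S.a S.k : Tp) : G) (s : G) := by
  obtain ⟨s, hne, hc⟩ := S.exists_fused (S.A_sq hkl hl) (S.A_ne hkl hl) (S.A_central hkl hl)
  have hs2 := S.sq_of_isConj (S.A_sq hkl hl) hc
  have hχ : S.χ s = 1 := by
    obtain ⟨c, hc'⟩ := isConj_iff.1 hc
    rw [← hc', map_mul, map_mul, S.chi_top_a hkl hl, mul_one, map_inv, mul_inv_cancel]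
  obtain ⟨i, j, h1, h2, h3⟩ := S.parity hkl hl hs2 (fun hE => hne (S.eq_A_of_inE hkl hl hE hc)) hχ
  exact ⟨s, i, j, h1, h2, h3, hs2, hne, hc⟩

/-- No square root of `t_a` commutes with another conjugate of `t_a`. -/
theorem no_root {s w : Tp} (hne : s ≠ top S.a S.k) (hc : IsConj ((top S.a S.k : Tp) : G) (s : G))
    (hw : Commute w s) (hw2 : w * w = top S.a S.k) : False := by
  obtain ⟨θ, ha, hb⟩ := S.fac.exists_sign (by have := S.k_two hkl hl; omega)
  obtain ⟨g, hg, hT⟩ := S.exists_extremal (S.A_central hkl hl) hc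
  set u : Tp := ⟨_, hT w hw⟩ * ⟨_, hT w hw⟩ with hu
  have huv : (u : G) = g * (top S.a S.k : Tp) * g⁻¹ := by
    rw [hu, ← hw2, Subgroup.coe_mul, Subgroup.coe_mul]
    group
  have hconj : IsConj ((top S.a S.k : Tp) : G) (u : G) := isConj_iff.2 ⟨g, huv.symm⟩
  have hEu := S.fac.inE_of_sign hkl hl ha hb (S.sq_of_isConj (S.A_sq hkl hl) hconj)
    (by rw [hu, map_mul]; exact Int.units_mul_self _)
  have h := S.eq_A_of_inE hkl hl hEu hconj
  rw [h] at huv
  nth_rewrite 1 [← hg] at huv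
  exact hne (Subtype.ext (mul_left_cancel (mul_right_cancel huv)))

theorem conj_four_odd (i : ℕ) {j : ℕ} (hj : Odd j) :
    S.a ^ i * S.b ^ j * four S.a S.k * (S.a ^ i * S.b ^ j)⁻¹ =
      four S.a S.k * kap S.a S.k S.b := by
  obtain ⟨c, rfl⟩ := hj
  have h1 : Commute (S.b ^ (2 * c)) (four S.a S.k) := by
    rw [pow_mul, sq]; exact (S.fac.sq_comm_four hkl hl S.b).pow_left c
  have h2 : Commute (S.a ^ i) (four S.a S.k * kap S.a S.k S.b) :=
    ((Commute.refl S.a).pow_pow i _).mul_right (S.fac.kappa_central hkl hl _ _)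
  calc S.a ^ i * S.b ^ (2 * c + 1) * four S.a S.k * (S.a ^ i * S.b ^ (2 * c + 1))⁻¹
      = S.a ^ i * (S.b * (S.b ^ (2 * c) * four S.a S.k * (S.b ^ (2 * c))⁻¹) * S.b⁻¹) *
          (S.a ^ i)⁻¹ := by rw [pow_succ']; group
    _ = S.a ^ i * (S.b * four S.a S.k * S.b⁻¹) * (S.a ^ i)⁻¹ := by
        rw [h1.eq, mul_inv_cancel_right]
    _ = _ := by rw [conj_four, h2.eq, mul_inv_cancel_right]

theorem conj_kappa (i : ℕ) {j : ℕ} (hj : Odd j) :
    IsConj ((S.a ^ i * S.b ^ j : Tp) : G)
      ((kap S.a S.k S.b * (S.a ^ i * S.b ^ j) : Tp) : G) := by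
  have h := mul_inv_eq_iff_eq_mul.1 (S.conj_four_odd hkl hl i hj)
  refine isConj_iff.2 ⟨(((four S.a S.k)⁻¹ : Tp) : G), ?_⟩
  have h' : (four S.a S.k)⁻¹ * (S.a ^ i * S.b ^ j) * four S.a S.k =
      kap S.a S.k S.b * (S.a ^ i * S.b ^ j) := by
    rw [mul_assoc, h]; group
  have h'' := congrArg Subtype.val h'
  simp only [Subgroup.coe_mul, Subgroup.coe_inv, inv_inv] at h'' ⊢
  exact h''

theorem kappa_ne_one : kap S.a S.k S.b ≠ 1 := by
  intro h
  obtain ⟨s, i, j, hs, -, hj, -, hne, hc⟩ := S.exists_s hkl hl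
  refine S.no_root hkl hl hne hc (w := four S.a S.k) ?_ (four_sq (S.k_two hkl hl))
  have h1 := S.conj_four_odd hkl hl i hj
  rw [h, mul_one, ← hs] at h1
  exact (mul_inv_eq_iff_eq_mul.1 h1).symm

theorem B_central (x : Tp) : Commute x (top S.b S.l) := by
  by_contra hx
  rcases hkl.lt_or_eq with hlt | heq
  swap
  · exact hx (S.fac.swap.ta_central (by omega) (by omega) x)
  have hκ := (S.fac.kappa_mem hlt (S.k_two hkl hl) S.b).resolve_left (S.kappa_ne_one hkl hl)
  obtain ⟨s, i, j, hs, hi, hj, hs2, hne, hc⟩ := S.exists_s hkl hl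
  obtain ⟨θ, ha, hb⟩ := S.fac.exists_sign (by have := S.k_two hkl hl; omega)
  have hconjB : s * top S.b S.l * s⁻¹ = S.a ^ i * top S.b S.l * (S.a ^ i)⁻¹ := by
    have : Commute (S.b ^ j) (top S.b S.l) := (Commute.refl S.b).pow_pow j _
    rw [hs]
    calc S.a ^ i * S.b ^ j * top S.b S.l * (S.a ^ i * S.b ^ j)⁻¹
        = S.a ^ i * (S.b ^ j * top S.b S.l * (S.b ^ j)⁻¹) * (S.a ^ i)⁻¹ := by group
      _ = _ := by rw [this.eq, mul_inv_cancel_right]
  have h1 : s * top S.b S.l * s⁻¹ * (s * top S.b S.l * s⁻¹) = 1 := by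
    rw [show s * top S.b S.l * s⁻¹ * (s * top S.b S.l * s⁻¹) =
      s * (top S.b S.l * top S.b S.l) * s⁻¹ by group, S.B_sq hkl hl]
    group
  have h2 : θ (s * top S.b S.l * s⁻¹) = 1 := by
    rw [map_mul, map_mul, S.theta_inE hkl hl (Or.inr (Or.inr (Or.inl rfl))), mul_one, map_inv,
      mul_inv_cancel]
  have hB' : s * top S.b S.l * s⁻¹ = top S.a S.k * top S.b S.l := by
    rcases S.fac.inE_of_sign hkl hl ha hb h1 h2 with h | h | h | h
    · exact absurd (conj_eq_one_iff.1 h) (S.B_ne hkl hl)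
    · refine absurd ?_ (S.top_not_conj (by have := S.k_two hkl hl; omega))
      rw [← h]
      exact (isConj_iff.2 ⟨(s : G), by simp⟩).symm
    · exfalso
      rw [hconjB] at h
      have hc' : Commute (S.a ^ i) (top S.b S.l) := mul_inv_eq_iff_eq_mul.1 h
      obtain ⟨m, hm⟩ : ∃ m, (S.a ^ i) ^ m = S.a := exists_pow_eq_self_of_coprime (by
        rw [S.fac.oa]; exact Nat.Coprime.pow_right _ (Nat.coprime_two_right.2 hi))
      have hca : Commute S.a (top S.b S.l) := hm ▸ hc'.pow_left m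
      obtain ⟨p, q, rfl⟩ := S.fac.surj x
      exact hx ((hca.pow_left p).mul_left ((Commute.refl S.b).pow_pow q _))
    · exact h
  have h4 : s * four S.a S.k * s⁻¹ = four S.a S.k * top S.a S.k := by
    rw [hs, S.conj_four_odd hkl hl i hj, hκ]
  have hcomm := S.fac.comm_four_top hkl hl
  refine S.no_root hkl hl hne hc (w := four S.a S.k * top S.b S.l) ?_ ?_
  · refine (mul_inv_eq_iff_eq_mul.1
      (show s * (four S.a S.k * top S.b S.l) * s⁻¹ = four S.a S.k * top S.b S.l from ?_)).symm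
    calc s * (four S.a S.k * top S.b S.l) * s⁻¹
        = (s * four S.a S.k * s⁻¹) * (s * top S.b S.l * s⁻¹) := by group
      _ = four S.a S.k * (top S.a S.k * top S.a S.k) * top S.b S.l := by rw [h4, hB']; group
      _ = _ := by rw [S.A_sq hkl hl, mul_one]
  · rw [hcomm.symm.mul_mul_mul_comm, four_sq (S.k_two hkl hl), S.B_sq hkl hl, mul_one]

theorem prod_not_conj_B :
    ¬ IsConj ((top S.b S.l : Tp) : G) ((top S.a S.k * top S.b S.l : Tp) : G) := by
  rw [((S.B_central hkl hl) (top S.a S.k)).eq]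
  refine S.not_conj_mul (S.B_central hkl hl) (S.A_central hkl hl) (S.B_sq hkl hl) (S.A_sq hkl hl)
    (S.B_ne hkl hl) (S.A_ne hkl hl) (fun x hx hc => ?_)
    fun h => S.top_not_conj (by have := S.k_two hkl hl; omega) h.symm
  rcases S.central_inE hkl hl x hx hc with h | h | h | h
  · exact Or.inl h
  · exact Or.inr (Or.inr (Or.inl h))
  · exact Or.inr (Or.inl h)
  · exact Or.inr (Or.inr (Or.inr (h.trans ((S.B_central hkl hl) (top S.a S.k)).eq)))

theorem exists_v : ∃ (v : Tp) (i j : ℕ), v = S.a ^ i * S.b ^ j ∧ Odd i ∧ Odd j ∧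
    IsConj ((top S.b S.l : Tp) : G) (v : G) := by
  obtain ⟨v, hne, hc⟩ := S.exists_fused (S.B_sq hkl hl) (S.B_ne hkl hl) (S.B_central hkl hl)
  have hv2 := S.sq_of_isConj (S.B_sq hkl hl) hc
  have hχ : S.χ v = 1 := by
    obtain ⟨c, hc'⟩ := isConj_iff.1 hc
    rw [← hc', map_mul, map_mul, S.chi_top_b hkl hl, mul_one, map_inv, mul_inv_cancel]
  have hE : ¬ InE (top S.a S.k) (top S.b S.l) v := by
    rintro (h | h | h | h)
    · exact S.ne_one_of_isConj (S.B_ne hkl hl) hc h
    · exact S.top_not_conj (by have := S.k_two hkl hl; omega) (h ▸ hc).symm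
    · exact hne h
    · exact S.prod_not_conj_B hkl hl (h ▸ hc)
  obtain ⟨i, j, h1, h2, h3⟩ := S.parity hkl hl hv2 hE hχ
  exact ⟨v, i, j, h1, h2, h3, hc⟩

theorem kappa_eq : kap S.a S.k S.b = top S.a S.k * top S.b S.l := by
  have hA := S.A_central hkl hl
  have hB := S.B_central hkl hl
  rcases S.fac.kappa_mem_inE hkl hl S.b with h | h | h | h
  · exact absurd h (S.kappa_ne_one hkl hl)
  · exfalso
    obtain ⟨v, i, j, hv, -, hj, hc⟩ := S.exists_v hkl hl
    have h1 := S.conj_kappa hkl hl i hj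
    rw [h, ← hv] at h1
    have h2 := S.pair hA hB _ _ (IsConj.refl _) hc (congrArg Subtype.val (hA v).symm.eq)
    rw [← Subgroup.coe_mul] at h2
    exact S.prod_not_conj_B hkl hl ((hc.trans h1).trans h2.symm)
  · exfalso
    obtain ⟨s, i, j, hs, -, hj, -, -, hc⟩ := S.exists_s hkl hl
    have h1 := S.conj_kappa hkl hl i hj
    rw [h, ← hs] at h1
    have h2 := S.pair hA hB _ _ hc (IsConj.refl _) (congrArg Subtype.val (hB s).eq)
    rw [← Subgroup.coe_mul, (hB s).eq] at h2
    exact S.prod_not_conj hkl hl ((hc.trans h1).trans h2.symm)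
  · exact h

theorem k_eq_l : S.k = S.l := by
  by_contra hne
  have hlt : S.l < S.k := by omega
  have h := S.kappa_eq hkl hl
  rcases S.fac.kappa_mem hlt (S.k_two hkl hl) S.b with h' | h' <;> rw [h'] at h
  · exact S.prod_not_conj hkl hl (absurd h'.symm (fun e => S.kappa_ne_one hkl hl e.symm))
  · exact S.B_ne hkl hl (left_eq_mul.1 h)

theorem not_both_of_le : False := by
  have hA := S.A_central hkl hl
  have hB := S.B_central hkl hl
  have hk : S.k = S.l := S.k_eq_l hkl hl
  have hκ := S.kappa_eq hkl hl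
  have hκ' : kap S.b S.l S.a = top S.a S.k * top S.b S.l :=
    (S.swap.kappa_eq (show S.k ≤ S.l by omega) (show 2 ≤ S.k by omega)).trans (hA _).eq
  obtain ⟨s, i, j, hs, hi, hj, hs2, hne, hc⟩ := S.exists_s hkl hl
  have hst : IsConj (s : G) ((top S.a S.k * top S.b S.l * s : Tp) : G) := by
    have h1 := S.conj_kappa hkl hl i hj
    rwa [hκ, ← hs] at h1
  obtain ⟨θ, ha, hb⟩ := S.fac.exists_sign (by have := S.k_two hkl hl; omega)
  rcases Nat.lt_or_ge S.l 3 with hl3 | hl3
  · -- the exceptional case `k = l = 2`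
    obtain ⟨v, i', j', hv, hi', hj', hcv⟩ := S.exists_v hkl hl
    have hl2 : S.l = 2 := by omega
    have hta : top S.a S.k = S.a * S.a := by rw [top, hk, hl2]; norm_num [pow_succ]
    have htb : top S.b S.l = S.b * S.b := by rw [top, hl2]; norm_num [pow_succ]
    have hform : ∀ p q : ℕ, Odd p → Odd q → ∃ m n : ℕ, S.a ^ p * S.b ^ q =
        S.a * S.b * (top S.a S.k ^ m * top S.b S.l ^ n) := by
      rintro p q ⟨m, rfl⟩ ⟨n, rfl⟩
      refine ⟨m, n, ?_⟩
      rw [pow_succ', pow_succ', pow_mul, pow_mul, sq, sq, ← hta, ← htb]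
      calc S.a * top S.a S.k ^ m * (S.b * top S.b S.l ^ n)
          = S.a * (top S.a S.k ^ m * S.b) * top S.b S.l ^ n := by group
        _ = _ := by rw [← ((hA S.b).pow_right m).eq]; group
    obtain ⟨m, n, hmn⟩ := hform i j hi hj
    obtain ⟨m', n', hmn'⟩ := hform i' j' hi' hj'
    have hv' : v = s * (top S.a S.k ^ (m + m') * top S.b S.l ^ (n + n')) := by
      have e1 : top S.a S.k ^ (m + m') * top S.b S.l ^ (n + n') =
          (top S.a S.k ^ m * top S.b S.l ^ n) * (top S.a S.k ^ m' * top S.b S.l ^ n') := by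
        rw [pow_add, pow_add, (((hA (top S.b S.l)).pow_pow n m')).mul_mul_mul_comm]
      have e2 : (top S.a S.k ^ m * top S.b S.l ^ n) * (top S.a S.k ^ m * top S.b S.l ^ n) = 1 := by
        rw [(((hA (top S.b S.l)).pow_pow n m)).mul_mul_mul_comm, ← (Commute.refl _).mul_pow,
          ← (Commute.refl _).mul_pow, S.A_sq hkl hl, S.B_sq hkl hl, one_pow, one_pow, one_mul]
      rw [hv, hmn', hs, hmn, e1, mul_assoc (S.a * S.b),
        ← mul_assoc (top S.a S.k ^ m * top S.b S.l ^ n), e2, one_mul]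
    have hsB : IsConj ((top S.a S.k * top S.b S.l : Tp) : G) ((s * top S.b S.l : Tp) : G) := by
      rw [Subgroup.coe_mul _ s (top S.b S.l)]
      exact S.pair hA hB _ _ hc (IsConj.refl _) (congrArg Subtype.val (hB s).eq)
    have hsA : IsConj ((top S.a S.k * top S.b S.l : Tp) : G) ((s * top S.a S.k : Tp) : G) := by
      have e : s * top S.b S.l = S.a ^ i * S.b ^ (j + 2) := by
        rw [hs, pow_add, htb, sq, mul_assoc]
      have h1 := S.conj_kappa hkl hl i (j := j + 2) (by obtain ⟨c, rfl⟩ := hj; exact ⟨c + 1, by ring⟩)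
      rw [← e, hκ] at h1
      have e2 : top S.a S.k * top S.b S.l * (s * top S.b S.l) = s * top S.a S.k := by
        rw [(hB s).eq, mul_assoc, ← mul_assoc (top S.b S.l) (top S.b S.l), S.B_sq hkl hl, one_mul,
          (hA s).eq]
      rw [e2] at h1
      exact hsB.trans h1
    rcases top_pow S.fac.oa (show 1 ≤ S.k by omega) (m + m') with h1 | h1 <;>
      rcases top_pow S.fac.ob (show 1 ≤ S.l by omega) (n + n') with h2 | h2 <;>
      rw [h1, h2] at hv'
    · rw [one_mul, mul_one] at hv'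
      exact S.top_not_conj (by omega) (hc.trans (hv' ▸ hcv).symm)
    · rw [one_mul] at hv'
      exact S.prod_not_conj_B hkl hl ((hv' ▸ hcv).trans hsB.symm)
    · rw [mul_one] at hv'
      exact S.prod_not_conj_B hkl hl ((hv' ▸ hcv).trans hsA.symm)
    · rw [((hA s).mul_right (hB s)).eq] at hv'
      exact S.top_not_conj (by omega) ((hc.trans hst).trans (hv' ▸ hcv).symm)
  · -- `k = l ≥ 3`
    have hcomm : Commute (four S.a S.k) (four S.b S.l) := by
      have hfac : BFac S.a S.b S.k S.k := hk.symm ▸ S.fac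
      have := hfac.comm_four_four (by omega)
      rwa [show four S.b S.k = four S.b S.l by rw [hk]] at this
    set w : Tp := four S.a S.k * four S.b S.l with hw
    have h4a := S.conj_four_odd hkl hl i hj
    rw [hκ, ← hs] at h4a
    have h4b : s * four S.b S.l * s⁻¹ = four S.b S.l * (top S.a S.k * top S.b S.l) := by
      have e : S.a ^ i * four S.b S.l * (S.a ^ i)⁻¹ =
          four S.b S.l * (top S.a S.k * top S.b S.l) := by
        have h := S.swap.conj_four_odd (show S.k ≤ S.l by omega) (show 2 ≤ S.k by omega) 0 hi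
        change S.b ^ 0 * S.a ^ i * four S.b S.l * (S.b ^ 0 * S.a ^ i)⁻¹ =
          four S.b S.l * kap S.b S.l S.a at h
        rwa [pow_zero, one_mul, hκ'] at h
      have hbj : Commute (S.b ^ j) (four S.b S.l) := (Commute.refl S.b).pow_pow j _
      rw [← e, hs]
      calc S.a ^ i * S.b ^ j * four S.b S.l * (S.a ^ i * S.b ^ j)⁻¹
          = S.a ^ i * (S.b ^ j * four S.b S.l * (S.b ^ j)⁻¹) * (S.a ^ i)⁻¹ := by group
        _ = _ := by rw [hbj.eq, mul_inv_cancel_right]
    have ht2 : (top S.a S.k * top S.b S.l) * (top S.a S.k * top S.b S.l) = (1 : Tp) :=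
      S.fac.inE_sq hkl (by omega) (Or.inr (Or.inr (Or.inr rfl)))
    have hws : Commute w s := by
      refine (mul_inv_eq_iff_eq_mul.1 (show s * w * s⁻¹ = w from ?_)).symm
      have hcb : Commute (top S.a S.k * top S.b S.l) (four S.b S.l) :=
        ((hA (four S.b S.l)).mul_right (hB (four S.b S.l))).symm
      calc s * w * s⁻¹ = (s * four S.a S.k * s⁻¹) * (s * four S.b S.l * s⁻¹) := by rw [hw]; group
        _ = four S.a S.k * (top S.a S.k * top S.b S.l) * (four S.b S.l *
              (top S.a S.k * top S.b S.l)) := by rw [h4a, h4b]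
        _ = w * ((top S.a S.k * top S.b S.l) * (top S.a S.k * top S.b S.l)) := by
          rw [hcb.mul_mul_mul_comm]
        _ = w := by rw [ht2, mul_one]
    have hw2 : w * w = top S.a S.k * top S.b S.l := by
      rw [hw, hcomm.symm.mul_mul_mul_comm, four_sq (S.k_two hkl hl), four_sq hl]
    obtain ⟨g, hg, hT⟩ := S.exists_extremal hA hc
    set u : Tp := ⟨_, hT w hws⟩ * ⟨_, hT w hws⟩ with hu
    have huv : (u : G) = g * (top S.a S.k * top S.b S.l : Tp) * g⁻¹ := by
      show g * (w : G) * g⁻¹ * (g * (w : G) * g⁻¹) = _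
      rw [← hw2, Subgroup.coe_mul _ w w]
      group
    have hconj : IsConj ((top S.a S.k * top S.b S.l : Tp) : G) (u : G) :=
      isConj_iff.2 ⟨g, huv.symm⟩
    have hEu := S.fac.inE_of_sign hkl hl ha hb (S.sq_of_isConj ht2 hconj)
      (by rw [hu, map_mul]; exact Int.units_mul_self _)
    have hu' : u = top S.a S.k * top S.b S.l := by
      rcases hEu with h | h | h | h <;> try exact h
      · refine absurd h (S.ne_one_of_isConj (fun e => ?_) hconj)
        refine S.top_not_conj (by omega) ?_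
        rw [show top S.a S.k = top S.b S.l from
          (mul_eq_one_iff_eq_inv.1 e).trans (top_inv S.fac.ob (by omega))]
      · exact absurd (h ▸ hconj).symm (S.prod_not_conj hkl hl)
      · exact absurd (h ▸ hconj).symm (S.prod_not_conj_B hkl hl)
    rw [hu'] at huv
    -- `g` moves `t' * s` to `t_b`
    have h5 : g * ((top S.a S.k * top S.b S.l * s : Tp) : G) * g⁻¹ =
        ((top S.b S.l : Tp) : G) := by
      rw [Subgroup.coe_mul _ _ s, show g * (((top S.a S.k * top S.b S.l : Tp) : G) * s) * g⁻¹ =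
        g * ((top S.a S.k * top S.b S.l : Tp) : G) * g⁻¹ * (g * s * g⁻¹) by group, ← huv, hg,
        ← Subgroup.coe_mul, (hA (top S.a S.k * top S.b S.l)).eq, ← mul_assoc, S.A_sq hkl hl,
        one_mul]
    exact S.top_not_conj (by omega) ((hc.trans hst).trans (isConj_iff.2 ⟨g, h5⟩))

omit hkl hl

theorem not_both (hk : 2 ≤ S.k) (hl : 2 ≤ S.l) : False := by
  rcases le_total S.l S.k with h | h
  · exact S.not_both_of_le h hl
  · exact S.swap.not_both_of_le h hk

end Setup

end Cfsg.Agent.CyclicZFactor
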