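import Cfsg.Agent.Lib.CyclicZFactor.Small
import Cfsg.Agent.Lib.CyclicZFactor.Bound
import Cfsg.Agent.Lib.SignTransfer.Basic
import Cfsg.Agent.Lib.RankOneSylow.Two
import Cfsg.Agent.Lib.OddOrderTheorem.Basic
import Cfsg.Agent.Lib.PairsCyclic.Basic
import Cfsg.Agent.S0483

/-!
# Products of a cyclic group and a Z-group with trivial radical (owner: helper91)

* `exists_setup` : the fusion data of such a factorisation
* `iso_pgl` : the group is `PGL₂(p)`
-/

set_option autoImplicit false
set_option linter.style.haveILetI false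

namespace Cfsg.Agent.CyclicZFactor

open Subgroup

universe u

/-- A factorisation of a group with trivial radical by a cyclic group and a Z-group. -/
structure Factor (G : Type u) [Group G] (A B : Subgroup G) : Prop where
  cyc : IsCyclic A
  zgr : IsZGroup B
  prod : ∀ g : G, ∃ a ∈ A, ∃ b ∈ B, g = a * b
  rad : ∀ N : Subgroup G, N.Normal → Group.IsSolvable N → N = ⊥

namespace Factor

set_option linter.unusedSectionVars false

variable {G : Type u} [Group G] [Finite G] {A B : Subgroup G}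

theorem prod' (h : Factor G A B) (g : G) : ∃ b ∈ B, ∃ a ∈ A, g = b * a := by
  obtain ⟨a, ha, b, hb, hg⟩ := h.prod g⁻¹
  exact ⟨b⁻¹, inv_mem hb, a⁻¹, inv_mem ha, by rw [← mul_inv_rev, ← hg, inv_inv]⟩

theorem disjoint (h : Factor G A B) {x : G} (hxA : x ∈ A) (hxB : x ∈ B) : x = 1 := by
  haveI := h.cyc
  haveI := h.zgr
  set N := Subgroup.normalClosure ({x} : Set G) with hN
  have hle : N ≤ B := by
    rw [hN, Subgroup.normalClosure]
    refine (Subgroup.closure_le B).2 fun y hy => ?_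
    obtain ⟨z, hz, hc⟩ := Group.mem_conjugatesOfSet_iff.1 hy
    rw [Set.mem_singleton_iff] at hz
    subst hz
    obtain ⟨g, rfl⟩ := isConj_iff.1 hc
    obtain ⟨b, hb, a, ha, rfl⟩ := h.prod' g
    have hax : a * z = z * a :=
      congrArg Subtype.val (IsCyclic.commGroup (α := A).mul_comm ⟨a, ha⟩ ⟨z, hxA⟩)
    rw [show b * a * z * (b * a)⁻¹ = b * (a * z * a⁻¹) * b⁻¹ by group, hax, mul_inv_cancel_right]
    exact mul_mem (mul_mem hb hxB) (inv_mem hb)
  haveI hs : Group.IsSolvable N :=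
    Group.isSolvable_of_isSolvable_injective (f := Subgroup.inclusion hle) (Subgroup.inclusion_injective hle)
  have hbot := h.rad N Subgroup.normalClosure_normal hs
  have hx : x ∈ N := Subgroup.subset_normalClosure rfl
  rwa [hbot, Subgroup.mem_bot] at hx

theorem comm (h : Factor G A B) {a z : G} (ha : a ∈ A) (hz : z ∈ A) : a * z = z * a := by
  haveI := h.cyc
  exact congrArg Subtype.val (IsCyclic.commGroup (α := A).mul_comm ⟨a, ha⟩ ⟨z, hz⟩)

theorem fusion (h : Factor G A B) {x g : G} (hx : x ∈ A) (hg : g * x * g⁻¹ ∈ B) : x = 1 := by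
  obtain ⟨b, hb, a, ha, rfl⟩ := h.prod' g
  rw [show b * a * x * (b * a)⁻¹ = b * (a * x * a⁻¹) * b⁻¹ by group, h.comm ha hx,
    mul_inv_cancel_right] at hg
  refine h.disjoint hx ?_
  have := mul_mem (mul_mem (inv_mem hb) hg) hb
  rwa [show b⁻¹ * (b * x * b⁻¹) * b = x by group] at this

theorem card_eq (h : Factor G A B) : Nat.card G = Nat.card A * Nat.card B := by
  rw [← Nat.card_prod]
  refine (Nat.card_congr (Equiv.ofBijective (fun p : A × B => (p.1 : G) * (p.2 : G)) ⟨?_, ?_⟩)).symm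
  · rintro ⟨a, b⟩ ⟨a', b'⟩ he
    simp only at he
    have h1 : (a' : G)⁻¹ * (a : G) = (b' : G) * (b : G)⁻¹ := by
      rw [eq_mul_inv_iff_mul_eq, mul_assoc, he, inv_mul_cancel_left]
    have h2 : (a' : G)⁻¹ * (a : G) = 1 :=
      h.disjoint (mul_mem (inv_mem a'.2) a.2) (h1 ▸ mul_mem b'.2 (inv_mem b.2))
    have h3 : (a : G) = a' := (inv_mul_eq_one.1 h2).symm
    rw [h3] at he
    exact Prod.ext (Subtype.ext h3) (Subtype.ext (mul_left_cancel he))
  · intro g
    obtain ⟨a, ha, b, hb, rfl⟩ := h.prod g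
    exact ⟨(⟨a, ha⟩, ⟨b, hb⟩), rfl⟩

theorem oddCore_eq (h : Factor G A B) : Cfsg.oddCore G = ⊥ :=
  h.rad _ inferInstance (OddOrderTheorem.solvable
    (Nat.coprime_two_right.1 (Cores.coprime_card_pPrimeCore 2)))

theorem pCore_eq (h : Factor G A B) : Cfsg.pCore 2 G = ⊥ := by
  haveI : Fact (Nat.Prime 2) := ⟨Nat.prime_two⟩
  haveI := (Cores.isPGroup_pCore 2 G).isNilpotent
  exact h.rad _ inferInstance inferInstance

end Factor

/-- In a cyclic Sylow situation, a generator inside a chosen Sylow subgroup of `G`. -/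
theorem exists_generator {G : Type u} [Group G] [Finite G] (A : Subgroup G) [IsZGroup A] :
    ∃ (a : G) (k : ℕ), a ∈ A ∧ orderOf a = 2 ^ k ∧ ¬ 2 ^ (k + 1) ∣ Nat.card A := by
  haveI : Fact (Nat.Prime 2) := ⟨Nat.prime_two⟩
  obtain ⟨P⟩ : Nonempty (Sylow 2 A) := inferInstance
  obtain ⟨g, hg⟩ := IsCyclic.exists_ofOrder_eq_natCard (α := (P : Subgroup A))
  refine ⟨((g : A) : G), (Nat.card A).factorization 2, (g : A).2, ?_, ?_⟩
  · rw [Subgroup.orderOf_coe, Subgroup.orderOf_coe, hg]
    exact P.card_eq_multiplicity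
  · exact Nat.pow_succ_factorization_not_dvd Nat.card_pos.ne' Nat.prime_two

theorem setup_of_generators {G : Type u} [Group G] [Finite G] {A B : Subgroup G}
    (h : Factor G A B) (T : Sylow 2 G) {a b : G} {k l : ℕ}
    (haA : a ∈ A) (haT : a ∈ (T : Subgroup G)) (oa : orderOf a = 2 ^ k)
    (hka : ¬ 2 ^ (k + 1) ∣ Nat.card A)
    (hbB : b ∈ B) (hbT : b ∈ (T : Subgroup G)) (ob : orderOf b = 2 ^ l)
    (hlb : ¬ 2 ^ (l + 1) ∣ Nat.card B) : ∃ S : Setup G, S.T = T ∧ S.k = k ∧ S.l = l := by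
  haveI : Fact (Nat.Prime 2) := ⟨Nat.prime_two⟩
  haveI := h.cyc
  haveI := h.zgr
  have hAc := h.card_eq
  have hdA : 2 ^ k ∣ Nat.card A := by
    rw [← oa, show orderOf a = orderOf (⟨a, haA⟩ : A) from Subgroup.orderOf_mk a haA |>.symm]
    exact _root_.orderOf_dvd_natCard _
  have hdB : 2 ^ l ∣ Nat.card B := by
    rw [← ob, show orderOf b = orderOf (⟨b, hbB⟩ : B) from Subgroup.orderOf_mk b hbB |>.symm]
    exact _root_.orderOf_dvd_natCard _
  have hfA : (Nat.card A).factorization 2 = k := le_antisymm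
    (not_lt.1 fun hlt => hka ((pow_dvd_pow 2 hlt).trans (Nat.ordProj_dvd _ _)))
    ((Nat.prime_two.pow_dvd_iff_le_factorization Nat.card_pos.ne').1 hdA)
  have hfB : (Nat.card B).factorization 2 = l := le_antisymm
    (not_lt.1 fun hlt => hlb ((pow_dvd_pow 2 hlt).trans (Nat.ordProj_dvd _ _)))
    ((Nat.prime_two.pow_dvd_iff_le_factorization Nat.card_pos.ne').1 hdB)
  have hcard : Nat.card (T : Subgroup G) = 2 ^ (k + l) := by
    rw [T.card_eq_multiplicity, hAc, Nat.factorization_mul Nat.card_pos.ne' Nat.card_pos.ne',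
      Finsupp.add_apply, hfA, hfB]
  have hfac : BFac (⟨a, haT⟩ : (T : Subgroup G)) ⟨b, hbT⟩ k l := BFac.of_card
    (by rw [Subgroup.orderOf_mk, oa]) (by rw [Subgroup.orderOf_mk, ob])
    (fun i j e => Subtype.ext (show a ^ i = 1 from h.disjoint (pow_mem haA i) (by
      have e' : a ^ i = b ^ j := congrArg Subtype.val e
      rw [e']
      exact pow_mem hbB j))) hcard
  have hBidx : B.index = Nat.card A := by
    refine Nat.eq_of_mul_eq_mul_left (Nat.card_pos (α := B)) ?_
    rw [B.card_mul_index, hAc, mul_comm]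
  have hAidx : A.index = Nat.card B := by
    refine Nat.eq_of_mul_eq_mul_left (Nat.card_pos (α := A)) ?_
    rw [A.card_mul_index, hAc]
  obtain ⟨χ, hχ⟩ := SignTransfer.exists_hom B
  obtain ⟨ψ, hψ⟩ := SignTransfer.exists_hom A
  -- the odd part of `B`
  haveI : IsCyclic (zpowers (⟨b, hbB⟩ : B)) := inferInstance
  obtain ⟨P, N, hN, hc⟩ : Cfsg.HasNormalPComplement 2 B :=
    PairsCyclic.hasNormalPComplement_two (default : Sylow 2 B) inferInstance rfl
  haveI := hN
  refine ⟨⟨T, ⟨a, haT⟩, ⟨b, hbT⟩, k, l, hfac, ZGroupReduce.not_isolated h.oddCore_eq h.pCore_eq,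
    ?_, χ, ψ, ?_, ?_, ?_⟩, rfl, rfl, rfl⟩
  · intro i j e
    obtain ⟨c, hc'⟩ := isConj_iff.1 e
    exact h.fusion (g := c) (pow_mem haA i) (by rw [hc']; exact pow_mem hbB j)
  · intro hk
    refine hχ a k hk oa (by rwa [hBidx]) fun g n hn => ?_
    rw [← oa, orderOf_dvd_iff_pow_eq_one]
    exact h.fusion (g := g⁻¹) (pow_mem haA n) (by rwa [inv_inv])
  · intro hl
    refine hψ b l hl ob (by rwa [hAidx]) fun g n hn => ?_
    rw [← ob, orderOf_dvd_iff_pow_eq_one]
    have h1 : g⁻¹ * b ^ n * g = 1 := h.fusion (g := g) hn (by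
      rw [show g * (g⁻¹ * b ^ n * g) * g⁻¹ = b ^ n by group]
      exact pow_mem hbB n)
    calc b ^ n = g * (g⁻¹ * b ^ n * g) * g⁻¹ := by group
      _ = 1 := by rw [h1]; group
  · intro hta htb u v hu hv huv
    set t : G := ((top (⟨a, haT⟩ : (T : Subgroup G)) k : (T : Subgroup G)) : G) with ht
    set s : G := ((top (⟨b, hbT⟩ : (T : Subgroup G)) l : (T : Subgroup G)) : G) with hs
    have htA : t ∈ A := pow_mem haA _
    have hsB : s ∈ B := pow_mem hbB _
    have htb' : Commute b t := congrArg Subtype.val (hta ⟨b, hbT⟩).eq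
    have hts : Commute t s := congrArg Subtype.val (htb (top (⟨a, haT⟩ : (T : Subgroup G)) k)).eq
    rcases Nat.eq_zero_or_pos l with hl0 | hl0
    · have hb1 : b = 1 := orderOf_eq_one_iff.1 (by rw [ob, hl0, pow_zero])
      have hs1 : s = 1 := by
        show b ^ 2 ^ (l - 1) = 1
        rw [hb1, one_pow]
      rw [hs1, isConj_one_right] at hv
      rw [show ((top (⟨a, haT⟩ : (T : Subgroup G)) k * top (⟨b, hbT⟩ : (T : Subgroup G)) l :
        (T : Subgroup G)) : G) = t * s from rfl, hs1, hv, mul_one, mul_one]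
      exact hu
    obtain ⟨c, hc'⟩ := isConj_iff.1 hv
    set u' := c⁻¹ * u * c with hu'
    have hu'conj : IsConj t u' := hu.trans (isConj_iff.2 ⟨c⁻¹, by rw [inv_inv]⟩)
    have hu's : u' * s = s * u' := by
      have hc'' : c * s = v * c := by rw [← hc']; group
      have hs' : s = c⁻¹ * v * c := by rw [mul_assoc, ← hc'', inv_mul_cancel_left]
      rw [hu', hs']
      calc c⁻¹ * u * c * (c⁻¹ * v * c) = c⁻¹ * (u * v) * c := by group
        _ = c⁻¹ * (v * u) * c := by rw [huv.eq]
        _ = _ := by group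
    obtain ⟨g, hg⟩ := isConj_iff.1 hu'conj
    obtain ⟨b0, hb0, a0, ha0, rfl⟩ := h.prod' g
    obtain ⟨o, j, hoj⟩ : ∃ (o : N) (j : ℕ), b0 = ((o : B) : G) * b ^ j := by
      obtain ⟨Q, hQ⟩ := (IsPGroup.of_card (p := 2) (n := l) (G := zpowers (⟨b, hbB⟩ : B))
        (by rw [Nat.card_zpowers, Subgroup.orderOf_mk, ob])).exists_le_sylow
      have hQeq : zpowers (⟨b, hbB⟩ : B) = Q := Subgroup.eq_of_le_of_card_ge hQ (by
        rw [Q.card_eq_multiplicity, Nat.card_zpowers, Subgroup.orderOf_mk, ob, hfB])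
      obtain ⟨z, hz⟩ := MulAction.exists_smul_eq B P Q
      have hNQ : N ⊔ zpowers (⟨b, hbB⟩ : B) = ⊤ := by
        refine Subgroup.eq_top_of_le_card _ ?_
        have hcop : Nat.Coprime (Nat.card N) (Nat.card (zpowers (⟨b, hbB⟩ : B))) := by
          have hq : Nat.card (P : Subgroup B) = Nat.card (zpowers (⟨b, hbB⟩ : B)) := by
            rw [hQeq, ← hz]
            exact Nat.card_congr (Subgroup.equivSMul (MulAut.conj z) (P : Subgroup B)).toEquiv
          rw [← hq]
          exact Nat.Coprime.symm ((P.card_coprime_index).coprime_dvd_right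
            (dvd_of_eq hc.index_eq_card.symm |>.trans dvd_rfl))
        refine Nat.le_of_dvd Nat.card_pos ?_
        rw [← hc.card_mul_card]
        have hq : Nat.card (P : Subgroup B) = Nat.card (zpowers (⟨b, hbB⟩ : B)) := by
          rw [hQeq, ← hz]
          exact Nat.card_congr (Subgroup.equivSMul (MulAut.conj z) (P : Subgroup B)).toEquiv
        rw [hq]
        exact hcop.mul_dvd_of_dvd_of_dvd (card_dvd_of_le le_sup_left) (card_dvd_of_le le_sup_right)
      have hmem : (⟨b0, hb0⟩ : B) ∈ N ⊔ zpowers (⟨b, hbB⟩ : B) := hNQ ▸ Subgroup.mem_top _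
      rw [← SetLike.mem_coe, Subgroup.normal_mul] at hmem
      obtain ⟨o, ho, q, hq, hoq⟩ := hmem
      obtain ⟨j, hj⟩ := (Submonoid.mem_powers_iff _ _).1 (mem_powers_iff_mem_zpowers.2 hq)
      refine ⟨⟨o, ho⟩, j, ?_⟩
      subst hj
      exact (congrArg Subtype.val hoq).symm
    set o' : G := ((o : B) : G) with ho'
    have hu'eq : u' = o' * t * o'⁻¹ := by
      rw [← hg, hoj]
      have h1 : a0 * t = t * a0 := h.comm ha0 htA
      have h2 : b ^ j * t = t * b ^ j := (htb'.pow_left j).eq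
      calc o' * b ^ j * a0 * t * (o' * b ^ j * a0)⁻¹
          = o' * (b ^ j * (a0 * t * a0⁻¹) * (b ^ j)⁻¹) * o'⁻¹ := by group
        _ = _ := by rw [h1, mul_inv_cancel_right, h2, mul_inv_cancel_right]
    have hs2 : s * s = 1 := congrArg Subtype.val
      (BFac.top_sq (a := (⟨b, hbT⟩ : (T : Subgroup G))) hfac.ob hl0)
    set y : B := (o : B)⁻¹ * (⟨s, hsB⟩ * (o : B) * ⟨s, hsB⟩⁻¹) with hy
    have hyN : y ∈ N := mul_mem (inv_mem o.2) (hN.conj_mem _ o.2 _)
    have hyG : (y : G) = o'⁻¹ * (s * o' * s⁻¹) := rfl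
    have hyt : Commute (y : G) t := by
      have e1 : u' = s * u' * s⁻¹ := by rw [← hu's, mul_inv_cancel_right]
      have e2 : s * u' * s⁻¹ = (s * o' * s⁻¹) * t * (s * o' * s⁻¹)⁻¹ := by
        rw [hu'eq]
        calc s * (o' * t * o'⁻¹) * s⁻¹
            = (s * o' * s⁻¹) * (s * t * s⁻¹) * (s * o' * s⁻¹)⁻¹ := by group
          _ = _ := by rw [← hts.eq, mul_inv_cancel_right]
      rw [← e1, hu'eq] at e2
      show (y : G) * t = t * (y : G)
      rw [hyG]
      calc o'⁻¹ * (s * o' * s⁻¹) * t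
          = o'⁻¹ * ((s * o' * s⁻¹) * t * (s * o' * s⁻¹)⁻¹) * (s * o' * s⁻¹) := by group
        _ = o'⁻¹ * (o' * t * o'⁻¹) * (s * o' * s⁻¹) := by rw [← e2]
        _ = _ := by group
    have hsinv : s⁻¹ = s := inv_eq_of_mul_eq_one_right hs2
    have hyinv : s * (y : G) * s⁻¹ = (y : G)⁻¹ := by
      rw [hyG, hsinv]
      calc s * (o'⁻¹ * (s * o' * s)) * s = s * o'⁻¹ * s * o' * (s * s) := by group
        _ = (o'⁻¹ * (s * o' * s))⁻¹ := by
          rw [hs2, mul_inv_rev, mul_inv_rev, mul_inv_rev, inv_inv, hsinv]; group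
    obtain ⟨m, hm⟩ : Odd (orderOf (y : G)) := by
      have hNodd : Odd (Nat.card N) := by
        rw [← hc.index_eq_card]
        exact Nat.odd_iff.2 (Nat.two_dvd_ne_zero.1 P.not_dvd_index)
      exact hNodd.of_dvd_nat (by
        rw [Subgroup.orderOf_coe, show orderOf y = orderOf (⟨y, hyN⟩ : N) from
          (Subgroup.orderOf_mk y hyN).symm]
        exact _root_.orderOf_dvd_natCard _)
    set w : G := o' * (y : G) ^ (m + 1) with hw
    have hwt : w * t * w⁻¹ = u' := by
      rw [hu'eq, hw, show o' * (y : G) ^ (m + 1) * t * (o' * (y : G) ^ (m + 1))⁻¹ =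
        o' * ((y : G) ^ (m + 1) * t * ((y : G) ^ (m + 1))⁻¹) * o'⁻¹ by group,
        (hyt.pow_left (m + 1)).eq, mul_inv_cancel_right]
    have hws : w * s * w⁻¹ = s := by
      have hpow : (y : G) * ((y : G) ^ (m + 1))⁻¹ = (y : G) ^ (m + 1) := by
        rw [mul_inv_eq_iff_eq_mul, ← pow_add, show m + 1 + (m + 1) = orderOf (y : G) + 1 by omega,
          pow_succ, pow_orderOf_eq_one, one_mul]
      have h2 : s * w * s⁻¹ = w := by
        calc s * w * s⁻¹ = (s * o' * s⁻¹) * (s * (y : G) * s⁻¹) ^ (m + 1) := by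
              rw [hw, conj_pow]; group
          _ = o' * ((y : G) * ((y : G) ^ (m + 1))⁻¹) := by
              rw [hyinv, inv_pow, show s * o' * s⁻¹ = o' * (y : G) by rw [hyG]; group, mul_assoc]
          _ = w := by rw [hpow, hw]
      rw [mul_inv_eq_iff_eq_mul] at h2
      rw [← h2, mul_inv_cancel_right]
    refine isConj_iff.2 ⟨c * w, ?_⟩
    rw [Subgroup.coe_mul, ← ht, ← hs, ← hc',
      show c * w * (t * s) * (c * w)⁻¹ = c * ((w * t * w⁻¹) * (w * s * w⁻¹)) * c⁻¹ by group,
      hwt, hws, hu']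
    group

theorem Factor.conjugate {G : Type u} [Group G] [Finite G] {A B : Subgroup G} (h : Factor G A B)
    {a0 : G} (ha0 : a0 ∈ A) : Factor G A (B.map (MulAut.conj a0).toMonoidHom) where
  cyc := h.cyc
  zgr := by
    haveI := h.zgr
    exact IsZGroup.of_injective
      (f := (B.equivMapOfInjective _ (MulAut.conj a0).injective).symm.toMonoidHom)
      (MulEquiv.injective _)
  prod g := by
    obtain ⟨a, ha, b, hb, hg⟩ := h.prod (g * a0)
    refine ⟨a * a0⁻¹, mul_mem ha (inv_mem ha0), a0 * b * a0⁻¹, ⟨b, hb, rfl⟩, ?_⟩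
    rw [show a * a0⁻¹ * (a0 * b * a0⁻¹) = a * b * a0⁻¹ by group, ← hg, mul_inv_cancel_right]
  rad := h.rad

/-- The Sylow subgroups of the factors can be put in one Sylow subgroup. -/
theorem exists_setup {G : Type u} [Group G] [Finite G] {A B : Subgroup G} (h : Factor G A B) :
    ∃ (B' : Subgroup G) (S : Setup G), Factor G A B' ∧
      Nat.card (S.T : Subgroup G) = 2 ^ (S.k + S.l) := by
  haveI : Fact (Nat.Prime 2) := ⟨Nat.prime_two⟩
  haveI := h.cyc
  haveI := h.zgr
  obtain ⟨a, k, haA, oa, hka⟩ := exists_generator A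
  obtain ⟨b, l, hbB, ob, hlb⟩ := exists_generator B
  obtain ⟨T, hT⟩ := (IsPGroup.of_card (p := 2) (n := k) (G := zpowers a)
    (by rw [Nat.card_zpowers, oa])).exists_le_sylow
  obtain ⟨T', hT'⟩ := (IsPGroup.of_card (p := 2) (n := l) (G := zpowers b)
    (by rw [Nat.card_zpowers, ob])).exists_le_sylow
  obtain ⟨g, hg⟩ := MulAction.exists_smul_eq G T' T
  obtain ⟨a0, ha0, b0, hb0, rfl⟩ := h.prod g
  set b' := a0 * b0 * b * (a0 * b0)⁻¹ with hb'
  have hb'T : b' ∈ (T : Subgroup G) := by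
    rw [← hg]
    exact Subgroup.smul_mem_pointwise_smul b (MulAut.conj (a0 * b0)) _ (hT' (mem_zpowers b))
  have hb'B : b' ∈ B.map (MulAut.conj a0).toMonoidHom :=
    ⟨b0 * b * b0⁻¹, mul_mem (mul_mem hb0 hbB) (inv_mem hb0), by
      show a0 * (b0 * b * b0⁻¹) * a0⁻¹ = b'
      rw [hb']; group⟩
  obtain ⟨S, h1, h2, h3⟩ := setup_of_generators (h.conjugate ha0) T haA (hT (mem_zpowers a)) oa hka
    hb'B hb'T (by rw [hb', Involution.orderOf_conj, ob]) (by
      rwa [Nat.card_congr (B.equivMapOfInjective _ (MulAut.conj a0).injective).toEquiv.symm])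
  exact ⟨_, S, h.conjugate ha0, S.fac.card_eq⟩

/-- The perfect residual, with solvable quotient. -/
theorem exists_residual (G : Type u) [Group G] [Finite G] :
    ∃ P : Subgroup G, ∃ _ : P.Normal, ⁅P, P⁆ = P ∧ Group.IsSolvable (G ⧸ P) := by
  obtain ⟨n, hn⟩ : ∃ n, derivedSeries G (n + 1) = derivedSeries G n := by
    by_contra hne
    push Not at hne
    have hlt : ∀ n, derivedSeries G (n + 1) < derivedSeries G n := fun n =>
      lt_of_le_of_ne (derivedSeries_antitone G n.le_succ) (hne n)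
    exact not_injective_infinite_finite _ (strictAnti_nat_of_succ_lt hlt).injective
  haveI := derivedSeries_normal G n
  refine ⟨derivedSeries G n, derivedSeries_normal G n, hn, (Group.isSolvable_def _).2 ⟨n, ?_⟩⟩
  rw [← map_derivedSeries_eq (QuotientGroup.mk'_surjective (derivedSeries G n)) n,
    Subgroup.map_eq_bot_iff, QuotientGroup.ker_mk']

/-- Perfect residual with dihedral Sylow subgroups. -/
theorem exists_simple {G : Type u} [Group G] [Finite G] {A B : Subgroup G} (h : Factor G A B)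
    (hns : ¬ Group.IsSolvable G) :
    ∃ P : Subgroup G, P.Normal ∧ P ≠ ⊤ ∧ centralizer (P : Set G) = ⊥ ∧
      ((∃ (F : Type) (_ : Field F) (_ : Fintype F), Odd (Fintype.card F) ∧ 3 < Fintype.card F ∧
          Nonempty (P ≃* Matrix.ProjectiveSpecialLinearGroup (Fin 2) F)) ∨
        Nonempty (P ≃* alternatingGroup (Fin 7))) := by
  haveI : Fact (Nat.Prime 2) := ⟨Nat.prime_two⟩
  obtain ⟨B', S, hF, hcT⟩ := exists_setup h
  have hkl : 1 ≤ S.k + S.l := by
    by_contra hc
    have hpos := S.T.dvd_card_of_dvd_card (p := 2) (G := G) (by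
      by_contra h2
      exact hns (OddOrderTheorem.solvable (Nat.odd_iff.2 (Nat.two_dvd_ne_zero.1 h2))))
    rw [hcT, show S.k + S.l = 0 by omega] at hpos
    norm_num at hpos
  obtain ⟨φ, ⟨g₀, hg₀⟩, hshape⟩ := S.exists_kernel hkl
  obtain ⟨P, hPn, hPP, hPq⟩ := exists_residual G
  haveI := hPn
  have hPne : P ≠ ⊥ := fun e => hns (by
    subst e
    exact Group.isSolvable_of_isSolvable_injective (f := (QuotientGroup.quotientBot (G := G)).symm.toMonoidHom)
      (MulEquiv.injective _))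
  have hperf : commutator P = ⊤ := Frobenius.commutator_eq_top_of_perfect hPP
  have hker : ∀ x : G, x ∈ P → φ x = 1 := fun x hx =>
    Frobenius.eq_one_of_perfect hperf (φ.comp P.subtype) ⟨x, hx⟩
  have hPtop : P ≠ ⊤ := fun e => by
    have := hker g₀ (e ▸ Subgroup.mem_top _)
    rw [hg₀] at this
    exact absurd this (by decide)
  have hPsol : ¬ Group.IsSolvable P := fun hs => hPne (h.rad P hPn hs)
  have hPO : Cfsg.oddCore P = ⊥ := by
    have e := Cores.pPrimeCore_map_subtype (p := 2) P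
    rw [show Cfsg.pPrimeCore 2 G = ⊥ from h.oddCore_eq] at e
    exact (map_eq_bot_iff_of_injective _ P.subtype_injective).1
      (le_bot_iff.1 (e.le.trans inf_le_left))
  have hPO2 : Cfsg.pCore 2 P = ⊥ := by
    have e := Cores.pCore_map_subtype (p := 2) P
    rw [h.pCore_eq] at e
    exact (map_eq_bot_iff_of_injective _ P.subtype_injective).1
      (le_bot_iff.1 (e.le.trans inf_le_left))
  have hPeven : Even (Nat.card P) := by
    by_contra hodd
    exact hPsol (OddOrderTheorem.solvable (Nat.not_even_iff_odd.1 hodd))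
  have hrank := ZGroupReduce.not_rankLE_one hPO hPO2 hPeven
  -- move 2-subgroups of `P` into `T`
  have hmove : ∀ E : Subgroup P, IsPGroup 2 E → ∃ c : G, ∀ x ∈ E,
      c * (x : G) * c⁻¹ ∈ (S.T : Subgroup G) ∧ φ (c * (x : G) * c⁻¹) = 1 := by
    intro E hE
    obtain ⟨c, -, hc⟩ := DGroup.exists_conj_into S.T (M := ⊤) le_top (hE.map P.subtype) le_top
    exact ⟨c, fun x hx => ⟨hc _ ⟨x, hx, rfl⟩, hker _ (hPn.conj_mem _ x.2 _)⟩⟩
  rcases hshape with huniq | ⟨n, hn, ⟨e⟩⟩
  · exfalso
    refine hrank fun E _ hE2 => ?_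
    obtain ⟨c, hc⟩ := hmove E fun x => ⟨1, Subtype.ext (hE2 _ x.2)⟩
    rw [pow_one]
    by_contra hbig
    obtain ⟨x, hx, hx1⟩ : ∃ x ∈ E, x ≠ 1 := by
      by_contra hall
      push Not at hall
      have : E = ⊥ := (Subgroup.eq_bot_iff_forall E).2 hall
      rw [this, Subgroup.card_bot] at hbig
      omega
    have hsub : (E : Set P) ⊆ {1, x} := fun y hy => by
      by_cases hy1 : y = 1
      · exact Or.inl hy1
      have hord : ∀ z ∈ E, z ≠ 1 → orderOf (c * (z : G) * c⁻¹) = 2 := fun z hz hz1 => by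
        rw [Involution.orderOf_conj, Subgroup.orderOf_coe]
        exact orderOf_eq_prime (hE2 z hz) hz1
      have := huniq _ _ (hc y hy).1 (hc x hx).1 (hc y hy).2 (hc x hx).2 (hord y hy hy1) (hord x hx hx1)
      exact Or.inr (Subtype.ext (mul_left_cancel (mul_right_cancel this)))
    refine hbig ?_
    have := Set.ncard_le_ncard hsub (Set.toFinite _)
    rw [← Nat.card_coe_set_eq] at this
    exact this.trans ((Set.ncard_insert_le _ _).trans (by rw [Set.ncard_singleton]))
  · obtain ⟨W⟩ := (inferInstance : Nonempty (Sylow 2 P))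
    have hWnc : ¬ IsCyclic (W : Subgroup P) := fun hcyc => hrank fun E hEc hE2 => by
      have hEp : IsPGroup 2 E := fun x => ⟨1, Subtype.ext (hE2 _ x.2)⟩
      obtain ⟨Q, hQ⟩ := hEp.exists_le_sylow
      haveI : IsCyclic (Q : Subgroup P) := isCyclic_of_injective (Q.equiv W).toMonoidHom
        (MulEquiv.injective _)
      haveI := Subgroup.isCyclic_of_le hQ
      rw [← IsCyclic.exponent_eq_card]
      exact Nat.le_of_dvd two_pos
        (Monoid.exponent_dvd_of_forall_pow_eq_one fun x => Subtype.ext (hE2 _ x.2))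
    obtain ⟨c, hc⟩ := hmove W W.2
    let f : P →* G := (MulAut.conj c).toMonoidHom.comp P.subtype
    have hf : Function.Injective f := (MulAut.conj c).injective.comp P.subtype_injective
    let eW : (W : Subgroup P) ≃* (W : Subgroup P).map f :=
      (W : Subgroup P).equivMapOfInjective f hf
    obtain ⟨b, hb, ⟨eb⟩⟩ := RankOneSylow.exists_dihedral_of_le e (W := (W : Subgroup P).map f)
      (by rintro _ ⟨x, hx, rfl⟩; exact ⟨(hc x hx).1, (hc x hx).2⟩)
      (fun hcy => hWnc (haveI := hcy; isCyclic_of_injective eW.toMonoidHom eW.injective))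
    haveI : Group.IsPerfect P := ⟨hperf⟩
    have hL := S0483.result W (2 ^ b)
      (le_trans (le_of_eq (pow_one 2).symm) (Nat.pow_le_pow_right two_pos hb)) ⟨eW.trans eb⟩
    let e0 : P ⧸ Cfsg.oddCore P ≃* P :=
      (QuotientGroup.quotientMulEquivOfEq hPO).trans QuotientGroup.quotientBot
    have hcent : centralizer (P : Set G) = ⊥ := by
      haveI hCn : (centralizer (P : Set G)).Normal := Subgroup.normal_centralizer
      refine h.rad _ hCn ?_
      by_contra hC
      obtain ⟨L, hLn, hLL, -, hL1⟩ := Frobenius.exists_perfect_residual (centralizer (P : Set G))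
      have hLne : L ≠ ⊥ := fun e => hC (hL1 e)
      -- a perfect subgroup is killed by the solvable quotient, so lies in `P`
      have hin : ∀ x : L, ((x : centralizer (P : Set G)) : G) ∈ P := fun x => by
        haveI := hPq
        rw [← QuotientGroup.eq_one_iff (N := P)]
        exact Frobenius.eq_one_of_perfect (Frobenius.commutator_eq_top_of_perfect hLL)
          ((QuotientGroup.mk' P).comp ((centralizer (P : Set G)).subtype.comp L.subtype)) x
      refine hLne ((Subgroup.eq_bot_iff_forall L).2 fun x hx => ?_)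
      have hLab : ∀ y z : L, y * z = z * y := fun y z => Subtype.ext (Subtype.ext
        (mem_centralizer_iff.1 (z : centralizer (P : Set G)).2 _ (hin y)))
      letI : CommGroup L := { (inferInstance : Group L) with mul_comm := hLab }
      exact congrArg Subtype.val (Frobenius.eq_one_of_perfect
        (Frobenius.commutator_eq_top_of_perfect hLL) (MonoidHom.id L) ⟨x, hx⟩)
    refine ⟨P, hPn, hPtop, hcent, ?_⟩
    rcases hL with ⟨F, hFf, hFin, hodd, h3, ⟨e'⟩⟩ | he
    · exact Or.inl ⟨F, hFf, hFin, hodd, h3, ⟨e0.symm.trans e'⟩⟩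
    · obtain ⟨e'⟩ := he
      exact Or.inr ⟨e0.symm.trans e'⟩

/-- **A group with trivial radical that is a product of a cyclic group and a Z-group.** -/
theorem iso_pgl {G : Type u} [Group G] [Finite G] {A B : Subgroup G} (h : Factor G A B)
    (hns : ¬ Group.IsSolvable G) :
    ∃ (F : Type) (_ : Field F) (_ : Fintype F) (p : ℕ), p.Prime ∧ 3 < p ∧ Fintype.card F = p ∧
      Nonempty (G ≃* (GL (Fin 2) F ⧸ Subgroup.center (GL (Fin 2) F))) := by
  obtain ⟨P, hPn, hPtop, hC, hP⟩ := exists_simple h hns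
  haveI := hPn
  haveI := h.cyc
  haveI := h.zgr
  have hidx : 2 ≤ P.index := by
    have h1 : P.index ≠ 1 := fun e => hPtop (Subgroup.index_eq_one.1 e)
    have := P.index_ne_zero_of_finite
    omega
  rcases hP with ⟨F, hFf, hFin, hodd, h3, ⟨e⟩⟩ | he
  · obtain ⟨p, f, hp, hf, hq⟩ : ∃ p f : ℕ, p.Prime ∧ 1 ≤ f ∧ Fintype.card F = p ^ f := by
      obtain ⟨p, hp⟩ := CharP.exists F
      haveI := hp
      obtain ⟨n, hn, hc⟩ := FiniteField.card F p
      exact ⟨p, n, hn, n.2, hc⟩
    haveI : Fact p.Prime := ⟨hp⟩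
    haveI : CharP F p := by
      obtain ⟨p', hp'⟩ := CharP.exists F
      haveI := hp'
      obtain ⟨n, hn, hc⟩ := FiniteField.card F p'
      have hd : p ∣ p' ^ (n : ℕ) := by rw [← hc, hq]; exact dvd_pow_self p (by omega)
      rwa [(Nat.prime_dvd_prime_iff_eq hp hn).1 (hp.dvd_of_dvd_pow hd)]
    have hq' : Nat.card F = p ^ f := by rw [Nat.card_eq_fintype_card, hq]
    have hp2 : p ≠ 2 := by
      rintro rfl
      rw [hq] at hodd
      exact absurd hodd (Nat.not_odd_iff_even.2 ((Nat.even_pow' (by omega)).2 even_two))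
    obtain ⟨φ, hφ, -, -⟩ := RankOneSylow.exists_between P hC e
    have hPc : Nat.card P = Nat.card (PSL2.PSL2 F) := Nat.card_congr e.toEquiv
    have haut : Nat.card (MulAut (PSL2.PSL2 F)) = f * (2 * Nat.card (PSL2.PSL2 F)) := by
      have := AutPSL.card_mulAut (m := 0) (F := F) p f hf hq'
      rw [if_pos rfl, one_mul] at this
      refine this.trans ?_
      congr 1
      have h1 := PSL2.card_psl_mul (F := F)
      have h2 : Nat.gcd 2 (Nat.card F - 1) = 2 := by
        rw [hq']
        obtain ⟨c, hc⟩ : Odd (p ^ f) := (hp.odd_of_ne_two hp2).pow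
        exact Nat.gcd_eq_left ⟨c, by omega⟩
      rw [h2] at h1
      rw [h1]
      exact PSL2.card_pgl_eq
    have hfin : Finite (MulAut (PSL2.PSL2 F)) :=
      Finite.of_injective (fun α : MulAut (PSL2.PSL2 F) => (α : PSL2.PSL2 F → PSL2.PSL2 F))
        DFunLike.coe_injective
    have hle : Nat.card G ∣ Nat.card (MulAut (PSL2.PSL2 F)) := by
      rw [Nat.card_congr (MonoidHom.ofInjective hφ).toEquiv]
      exact Subgroup.card_subgroup_dvd_card _
    have hcf : P.index ∣ 2 * f := by
      rw [haut, ← P.card_mul_index, hPc, show f * (2 * Nat.card (PSL2.PSL2 F)) =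
        Nat.card (PSL2.PSL2 F) * (2 * f) by ring] at hle
      exact Nat.dvd_of_mul_dvd_mul_left Nat.card_pos hle
    have hf1 : f = 1 := by
      let i : ↥(B ⊓ P) →* PSL2.PSL2 F := e.toMonoidHom.comp (Subgroup.inclusion inf_le_right)
      have hi : Function.Injective i := e.injective.comp (Subgroup.inclusion_injective _)
      haveI : IsZGroup ↥(B ⊓ P) := IsZGroup.of_injective
        (f := Subgroup.inclusion (inf_le_left : B ⊓ P ≤ B)) (Subgroup.inclusion_injective _)
      haveI : IsZGroup i.range := IsZGroup.of_injective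
        (f := (MonoidHom.ofInjective hi).symm.toMonoidHom) (MulEquiv.injective _)
      haveI : IsCyclic ↥(A ⊓ P) := Subgroup.isCyclic_of_le (inf_le_left : A ⊓ P ≤ A)
      obtain ⟨x, hx⟩ := IsCyclic.exists_ofOrder_eq_natCard (α := ↥(A ⊓ P))
      have hd := card_dvd_of_factor P A B h.card_eq
      refine exponent_one p f hf hq' hp2 hcf (e (Subgroup.inclusion inf_le_right x)) i.range ?_
      show _ ∣ orderOf ((e.toMonoidHom.comp (Subgroup.inclusion (inf_le_right : A ⊓ P ≤ P))) x) *
        Nat.card i.range * P.index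
      rw [orderOf_injective (e.toMonoidHom.comp (Subgroup.inclusion inf_le_right))
        (e.injective.comp (Subgroup.inclusion_injective _)) x, hx,
        ← Nat.card_congr (MonoidHom.ofInjective hi).toEquiv, ← hPc]
      exact hd
    subst hf1
    have hidx2 : P.index = 2 := by
      have := Nat.le_of_dvd two_pos hcf
      omega
    have hsurj : Function.Surjective φ := by
      have hb : Function.Bijective φ := hφ.bijective_of_nat_card_le (by
        rw [haut, ← P.card_mul_index, hidx2, hPc]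
        omega)
      exact hb.2
    obtain ⟨e2⟩ := nonempty_pglEquivAut (F := F) p (by rw [hq, pow_one])
    refine ⟨F, hFf, hFin, p, hp, ?_, by rw [hq, pow_one], ⟨?_⟩⟩
    · rw [hq, pow_one] at h3; exact h3
    · exact (MulEquiv.ofBijective φ ⟨hφ, hsurj⟩).trans e2.symm
  · exfalso
    obtain ⟨e⟩ := he
    obtain ⟨φ, hφ, -, -⟩ := RankOneSylow.exists_between P hC e
    refine alt_seven_false φ hφ A B h.card_eq ?_
    have hc : Nat.card P = 2520 := by
      rw [Nat.card_congr e.toEquiv, nat_card_alternatingGroup, Nat.card_fin]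
      decide
    rw [← P.card_mul_index, hc]
    omega

end Cfsg.Agent.CyclicZFactor
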