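import Cfsg.Agent.Lib.CyclicZFactor.Fusion
import Cfsg.Agent.Lib.Involution.Basic
import Mathlib.GroupTheory.SpecificGroups.Dihedral

/-!
# A cyclic part of order at most 2 (owner: helper91)

* `Setup.exists_kernel` : a sign homomorphism whose kernel meets `T` in a dihedral group or in a group
  with a single involution
-/

set_option autoImplicit false
set_option linter.style.haveILetI false
set_option linter.unusedSectionVars false

namespace Cfsg.Agent.CyclicZFactor

open BFac

namespace Setup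

variable {G : Type*} [Group G] [Finite G] (S : Setup G)

local notation "Tp" => (Setup.T S : Subgroup G)

theorem false_of_l_zero (hl : S.l = 0) (hk : 1 ≤ S.k) : False := by
  have hb : S.b = 1 := orderOf_eq_one_iff.1 (by rw [S.fac.ob, hl, pow_zero])
  obtain ⟨s, hne, hc⟩ := S.exists_fused (z := top S.a S.k) (top_sq S.fac.oa hk)
    (top_ne S.fac.oa hk) (S.fac.ta_central (by omega) hk)
  obtain ⟨i, j, rfl⟩ := S.fac.surj s
  rw [hb, one_pow, mul_one] at hne hc
  exact hne (eq_top_of_sq S.fac.oa hk (S.ne_one_of_isConj (top_ne S.fac.oa hk) hc)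
    (S.sq_of_isConj (top_sq S.fac.oa hk) hc))

/-- The two alternatives for the kernel of `φ` on `T`. -/
def KernelShape (φ : G →* ℤˣ) : Prop :=
  (∀ u v : G, u ∈ Tp → v ∈ Tp → φ u = 1 → φ v = 1 → orderOf u = 2 → orderOf v = 2 → u = v) ∨
    ∃ n : ℕ, 1 ≤ n ∧ Nonempty (↥(Tp ⊓ φ.ker) ≃* DihedralGroup (2 ^ n))

theorem exists_kernel_one (hl : S.l = 1) (hk : 1 ≤ S.k) :
    ∃ φ : G →* ℤˣ, φ S.a = -1 ∧ S.KernelShape φ := by
  obtain ⟨φ, hφa, hφb⟩ : ∃ φ : G →* ℤˣ, φ S.a = -1 ∧ φ S.b = -1 := by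
    rcases Int.units_eq_one_or (S.χ S.b) with h | h
    · rcases Int.units_eq_one_or (S.ψ S.a) with h' | h'
      · exact ⟨S.χ * S.ψ, by rw [MonoidHom.mul_apply, S.χa hk, h', mul_one],
          by rw [MonoidHom.mul_apply, h, S.ψb (by omega), one_mul]⟩
      · exact ⟨S.ψ, h', S.ψb (by omega)⟩
    · exact ⟨S.χ, S.χa hk, h⟩
  refine ⟨φ, hφa, ?_⟩
  have hφ : ∀ i j : ℕ, φ ((S.a ^ i * S.b ^ j : Tp) : G) = (-1) ^ (i + j) := fun i j => by
    rw [Subgroup.coe_mul, map_mul, SubgroupClass.coe_pow, SubgroupClass.coe_pow, map_pow, map_pow,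
      hφa, hφb, pow_add]
  have hb2 : S.b * S.b = 1 := by
    rw [← sq, pow_eq_one_iff_dvd S.fac.ob, hl, pow_one]
  have hbpow : ∀ j : ℕ, S.b ^ j = 1 ∧ Even j ∨ S.b ^ j = S.b ∧ Odd j := by
    intro j
    rcases Nat.even_or_odd j with ⟨c, rfl⟩ | ⟨c, rfl⟩
    · exact Or.inl ⟨by rw [← two_mul, pow_mul, sq, hb2, one_pow], c, rfl⟩
    · exact Or.inr ⟨by rw [pow_succ, pow_mul, sq, hb2, one_pow, one_mul], c, rfl⟩
  -- `b` normalises `⟨a⟩`
  obtain ⟨e, he⟩ : ∃ e : ℕ, S.b * S.a * S.b⁻¹ = S.a ^ e := by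
    obtain ⟨i, j, hij⟩ := S.fac.surj (S.b * S.a * S.b⁻¹)
    rcases hbpow j with ⟨h, -⟩ | ⟨h, -⟩ <;> rw [h] at hij
    · exact ⟨i, by rw [hij, mul_one]⟩
    · exfalso
      have h2 : S.b * S.a = S.a ^ i := by
        have := congrArg (· * S.b) hij
        simpa [mul_assoc, hb2] using this
      obtain ⟨i', hi'⟩ := exists_inv_pow S.a 1
      have hb' : S.a ^ (i + i') = S.b ^ 1 := by
        rw [pow_add, hi', ← h2, pow_one, pow_one, mul_inv_cancel_right]
      have := S.fac.disj _ _ hb'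
      rw [hb', pow_one] at this
      have h3 := S.fac.ob
      rw [this, orderOf_one, hl] at h3
      norm_num at h3
  have hsq : ∀ i : ℕ, S.a ^ i * S.b * (S.a ^ i * S.b) = S.a ^ ((1 + e) * i) := by
    intro i
    calc S.a ^ i * S.b * (S.a ^ i * S.b)
        = S.a ^ i * (S.b * S.a ^ i * S.b⁻¹) * (S.b * S.b) := by group
      _ = _ := by rw [← conj_pow, he, hb2, mul_one, ← pow_mul, ← pow_add]; ring_nf
  by_cases hdih : (S.a * S.b) * (S.a * S.b) = 1 ∧ 2 ≤ S.k
  · obtain ⟨hx2, hk2⟩ := hdih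
    right
    have he' : 2 ^ S.k ∣ 1 + e := by
      have h := hsq 1
      rw [pow_one, hx2, mul_one] at h
      exact (pow_eq_one_iff_dvd S.fac.oa _).1 h.symm
    set x : Tp := S.a * S.b with hxdef
    set y : Tp := S.a * S.b * (S.a * S.a) with hydef
    have hya : y = S.a ^ (2 * e + 1) * S.b := by
      rw [hydef, ← sq]
      calc S.a * S.b * S.a ^ 2 = S.a * (S.b * S.a ^ 2 * S.b⁻¹) * S.b := by group
        _ = S.a * (S.a ^ e) ^ 2 * S.b := by rw [← conj_pow, he]
        _ = _ := by rw [← pow_mul, ← pow_succ', mul_comm 2 e]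
    have hy2 : y * y = 1 := by
      rw [hya, hsq, pow_eq_one_iff_dvd S.fac.oa]
      exact he'.mul_right _
    have hne : ∀ {i : ℕ}, S.a ^ i * S.b ≠ 1 := by
      intro i h
      have := (S.fac.disj_mul (i := i) (j := 1) (by rwa [pow_one])).2
      rw [pow_one] at this
      have h3 := S.fac.ob
      rw [this, orderOf_one, hl] at h3
      norm_num at h3
    have hxG : orderOf (x : G) = 2 := by
      rw [Subgroup.orderOf_coe]
      exact Involution.orderOf_of_sq hx2 (by rw [hxdef, ← pow_one S.a]; exact hne)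
    have hyG : orderOf (y : G) = 2 := by
      rw [Subgroup.orderOf_coe]
      exact Involution.orderOf_of_sq hy2 (by rw [hya]; exact hne)
    have hxy : x * y = S.a ^ 2 := by
      rw [hydef, ← mul_assoc, ← hxdef, hx2, one_mul, sq]
    have hxy' : (x : G) ≠ (y : G) := fun h => by
      have h1 : x * y = 1 := by rw [← Subtype.ext h, hx2]
      rw [hxy, pow_eq_one_iff_dvd S.fac.oa] at h1
      have := Nat.le_of_dvd two_pos h1
      have h4 : 2 ^ 2 ≤ 2 ^ S.k := Nat.pow_le_pow_right two_pos hk2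
      omega
    have hord : orderOf ((x : G) * (y : G)) = 2 ^ (S.k - 1) := by
      rw [← Subgroup.coe_mul, hxy, Subgroup.orderOf_coe, orderOf_pow' _ two_ne_zero, S.fac.oa,
        Nat.gcd_eq_right (dvd_pow_self 2 (by omega)), show 2 ^ S.k = 2 ^ (S.k - 1) * 2 by rw [← pow_succ, show S.k - 1 + 1 = S.k by omega], Nat.mul_div_cancel _ two_pos]
    obtain ⟨f, -, -⟩ := Involution.card_closure_pair hxG hyG hxy'
    rw [hord] at f
    refine ⟨S.k - 1, by omega, ⟨?_⟩⟩
    refine (MulEquiv.subgroupCongr (le_antisymm ?_ ?_)).trans f.symm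
    · rintro g ⟨hg, hgk⟩
      obtain ⟨i, j, hij⟩ := S.fac.surj ⟨g, hg⟩
      have hφg : φ g = (-1) ^ (i + j) := by rw [← hφ, ← hij]
      replace hgk : φ g = 1 := hgk
      rw [hφg] at hgk
      have heven : Even (i + j) := (Nat.even_or_odd _).resolve_right fun h => by
        rw [h.neg_one_pow] at hgk; exact absurd hgk (by decide)
      have hx : (x : G) ∈ Subgroup.closure ({(x : G), (y : G)} : Set G) :=
        Subgroup.subset_closure (Set.mem_insert _ _)
      have hy : (y : G) ∈ Subgroup.closure ({(x : G), (y : G)} : Set G) :=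
        Subgroup.subset_closure (Set.mem_insert_of_mem _ rfl)
      have hw : ∀ c : ℕ, ((S.a ^ (2 * c) : Tp) : G) ∈
          Subgroup.closure ({(x : G), (y : G)} : Set G) := fun c => by
        rw [pow_mul, ← hxy, SubgroupClass.coe_pow, Subgroup.coe_mul]
        exact pow_mem (mul_mem hx hy) c
      show g ∈ _
      rcases hbpow j with ⟨h, c, rfl⟩ | ⟨h, c, rfl⟩ <;> rw [h] at hij
      · obtain ⟨d, hd⟩ : Even i := by rw [Nat.even_add] at heven; exact heven.2 ⟨c, rfl⟩
        rw [mul_one, hd, ← two_mul] at hij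
        have h5 : g = ((S.a ^ (2 * d) : Tp) : G) := congrArg Subtype.val hij
        exact h5 ▸ hw d
      · obtain ⟨d, hd⟩ : Odd i := by
          rw [← Nat.not_even_iff_odd]; intro h; rw [Nat.even_add] at heven
          exact Nat.not_even_iff_odd.2 ⟨c, rfl⟩ (heven.1 h)
        rw [hd, pow_succ, mul_assoc, ← hxdef] at hij
        have h5 : g = ((S.a ^ (2 * d) * x : Tp) : G) := congrArg Subtype.val hij
        rw [h5, Subgroup.coe_mul]
        exact mul_mem (hw d) hx
    · rw [Subgroup.closure_le]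
      rintro g (rfl | rfl)
      · refine ⟨x.2, ?_⟩
        have := hφ 1 1
        rw [pow_one, pow_one] at this
        show φ (x : G) = 1
        rw [hxdef, this]
        rfl
      · refine ⟨y.2, ?_⟩
        have := hφ (2 * e + 1) 1
        rw [pow_one] at this
        show φ (y : G) = 1
        rw [hya, this, Even.neg_one_pow ⟨e + 1, by omega⟩]
  · left
    -- every involution in the kernel is the same
    suffices h : ∀ u : Tp, φ u = 1 → u * u = 1 → u ≠ 1 →
        u = (if 2 ≤ S.k then top S.a S.k else S.a * S.b) by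
      intro u v hu hv hu1 hv1 hu2 hv2
      have hu3 := h ⟨u, hu⟩ hu1 (Subtype.ext (Involution.mul_self hu2))
        fun e => Involution.ne_one hu2 (congrArg Subtype.val e)
      have hv3 := h ⟨v, hv⟩ hv1 (Subtype.ext (Involution.mul_self hv2))
        fun e => Involution.ne_one hv2 (congrArg Subtype.val e)
      exact congrArg Subtype.val (hu3.trans hv3.symm)
    intro u hu hu2 hu1
    obtain ⟨i, j, rfl⟩ := S.fac.surj u
    rw [hφ] at hu
    have heven : Even (i + j) := (Nat.even_or_odd _).resolve_right fun h => by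
      rw [h.neg_one_pow] at hu; exact absurd hu (by decide)
    rcases hbpow j with ⟨h, hj⟩ | ⟨h, hj⟩ <;> rw [h] at hu1 hu2 ⊢
    · rw [mul_one] at hu1 hu2 ⊢
      have hi : Even i := by rw [Nat.even_add] at heven; exact heven.2 hj
      have h4 := eq_top_of_sq S.fac.oa hk hu1 hu2
      split_ifs with h2
      · exact h4
      · exfalso
        obtain ⟨c, rfl⟩ := hi
        refine hu1 ((pow_eq_one_iff_dvd S.fac.oa _).2 ?_)
        rw [show S.k = 1 by omega, pow_one]
        exact ⟨c, by ring⟩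
    · have hi : Odd i := by
        rw [← Nat.not_even_iff_odd]; intro h; rw [Nat.even_add] at heven
        exact Nat.not_even_iff_odd.2 hj (heven.1 h)
      rw [hsq, pow_eq_one_iff_dvd S.fac.oa] at hu2
      have h5 : 2 ^ S.k ∣ 1 + e := (Nat.Coprime.pow_left _
        (Nat.coprime_two_left.2 hi)).dvd_of_dvd_mul_right hu2
      have hx2 : (S.a * S.b) * (S.a * S.b) = 1 := by
        have h6 := hsq 1
        rw [pow_one, mul_one] at h6
        rw [h6, pow_eq_one_iff_dvd S.fac.oa]
        exact h5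
      have hk1 : ¬ 2 ≤ S.k := fun h2 => hdih ⟨hx2, h2⟩
      rw [if_neg hk1]
      obtain ⟨c, rfl⟩ := hi
      have ha2 : S.a ^ 2 = 1 := by
        rw [pow_eq_one_iff_dvd S.fac.oa, show S.k = 1 by omega, pow_one]
      rw [pow_succ, pow_mul, ha2, one_pow, one_mul]

/-- **The small case.** -/
theorem exists_kernel (hT : 1 ≤ S.k + S.l) :
    ∃ φ : G →* ℤˣ, (∃ g : G, φ g = -1) ∧ S.KernelShape φ := by
  have hl : S.l ≤ 1 ∨ S.k ≤ 1 := by
    by_contra h
    exact S.not_both (by omega) (by omega)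
  have hk0 : S.k ≠ 0 := fun h => S.swap.false_of_l_zero h (show 1 ≤ S.l by omega)
  have hl0 : S.l ≠ 0 := fun h => S.false_of_l_zero h (show 1 ≤ S.k by omega)
  rcases hl with h | h
  · obtain ⟨φ, h1, h2⟩ := S.exists_kernel_one (by omega) (by omega)
    exact ⟨φ, ⟨_, h1⟩, h2⟩
  · obtain ⟨φ, h1, h2⟩ := S.swap.exists_kernel_one (show S.k = 1 by omega) (show 1 ≤ S.l by omega)
    exact ⟨φ, ⟨_, h1⟩, h2⟩

end Setup

end Cfsg.Agent.CyclicZFactor
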